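import Mathlib
import Groth.Agent.S16742

/-!
# Lifts over `Z/p²` of principal subschemes with flat reduction
-/

set_option autoImplicit false
universe u

namespace NCDLiftLib

/-- Over a ring flat over `Z/p²` the elements killed by `p` are multiples of `p`. -/
theorem torsion_of_flat (p : ℕ) [Fact p.Prime] (M : Type u) [CommRing M] [Algebra (ZMod (p ^ 2)) M]
    [Module.Flat (ZMod (p ^ 2)) M] (a : M) (ha : (p : M) * a = 0) : a ∈ Ideal.span {(p : M)} := by
  obtain ⟨n, c, y, hy, hc⟩ := Module.Flat.isTrivialRelation_of_sum_smul_eq_zero (R := ZMod (p ^ 2)) (M := M)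
    (f := fun _ : Fin 1 => (p : ZMod (p ^ 2))) (x := fun _ => a) (by
      rw [Fin.sum_univ_one, Algebra.smul_def, map_natCast]; exact ha)
  have hya : a = ∑ j, c 0 j • y j := hy 0
  rw [hya]
  refine Submodule.sum_mem _ fun j _ => ?_
  have h := hc j
  rw [Fin.sum_univ_one] at h
  obtain ⟨m, hm⟩ := ZMod.natCast_zmod_surjective (c 0 j)
  rw [← hm, ← Nat.cast_mul, ZMod.natCast_eq_zero_iff, pow_two, Nat.mul_dvd_mul_iff_left (Fact.out : p.Prime).pos] at h
  obtain ⟨m', rfl⟩ := h
  rw [← hm, Algebra.smul_def, map_natCast, Nat.cast_mul, mul_assoc]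
  exact Ideal.mul_mem_right _ _ (Ideal.mem_span_singleton_self _)

/-- A quotient by a coordinate of an etale algebra over a polynomial ring is flat over the base. -/
theorem flat_coord_quot {σ : Type u} {A B : Type u} [CommRing A] [CommRing B] (φ : MvPolynomial σ A →+* B)
    (hφ : φ.Etale) (i : σ) :
    ((Ideal.Quotient.mk (Ideal.span {φ (MvPolynomial.X i)})).comp (φ.comp MvPolynomial.C)).Flat := by
  classical
  letI := φ.toAlgebra
  haveI : Algebra.Etale (MvPolynomial σ A) B := hφ
  haveI : Module.Flat (MvPolynomial σ A) B := inferInstance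
  let P := MvPolynomial σ A
  let J : Ideal P := Ideal.span {MvPolynomial.X i}
  let τ : MvPolynomial {j // j ≠ i} A →ₐ[A] P ⧸ J :=
    MvPolynomial.aeval fun j => Ideal.Quotient.mk J (MvPolynomial.X j.1)
  let ψ : P →ₐ[A] MvPolynomial {j // j ≠ i} A :=
    MvPolynomial.aeval fun j => if h : j = i then 0 else MvPolynomial.X ⟨j, h⟩
  have hψ : ∀ a ∈ J, ψ a = 0 := by
    intro a ha
    obtain ⟨c, rfl⟩ := Ideal.mem_span_singleton'.1 ha
    have hX : ψ (MvPolynomial.X i) = 0 := (MvPolynomial.aeval_X _ i).trans (dif_pos rfl)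
    rw [map_mul, hX, mul_zero]
  let ψ' : P ⧸ J →ₐ[A] MvPolynomial {j // j ≠ i} A := Ideal.Quotient.liftₐ J ψ hψ
  have hinv : τ.comp ψ' = AlgHom.id A (P ⧸ J) := by
    refine Ideal.Quotient.algHom_ext A (MvPolynomial.algHom_ext fun j => ?_)
    show τ (ψ (MvPolynomial.X j)) = Ideal.Quotient.mk J (MvPolynomial.X j)
    rw [show ψ (MvPolynomial.X j) = _ from MvPolynomial.aeval_X _ j]
    by_cases h : j = i
    · subst h
      rw [dif_pos rfl, map_zero]
      exact (Ideal.Quotient.eq_zero_iff_mem.2 (Ideal.mem_span_singleton_self _)).symm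
    · rw [dif_neg h]
      exact MvPolynomial.aeval_X _ _
  haveI : Module.Flat A (P ⧸ J) :=
    Module.Flat.of_retract ψ'.toLinearMap τ.toLinearMap (LinearMap.ext fun x => DFunLike.congr_fun hinv x)
  have h1 : ((Ideal.Quotient.mk J).comp MvPolynomial.C).Flat := by
    have : (algebraMap A (P ⧸ J)).Flat := RingHom.flat_algebraMap_iff.2 inferInstance
    exact this
  have hJ : J.map φ = Ideal.span {φ (MvPolynomial.X i)} := by rw [Ideal.map_span, Set.image_singleton]
  have h2 : (algebraMap (P ⧸ J) (B ⧸ J.map (algebraMap P B))).Flat :=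
    RingHom.flat_algebraMap_iff.2 (Module.Flat.of_linearEquiv
      (Algebra.TensorProduct.quotIdealMapEquivQuotTensor B J).toLinearEquiv)
  have h3 := h1.comp h2
  let e : B ⧸ J.map (algebraMap P B) ≃+* B ⧸ Ideal.span {φ (MvPolynomial.X i)} := Ideal.quotEquivOfEq hJ
  have h4 := h3.comp (RingHom.Flat.of_bijective (f := e.toRingHom) e.bijective)
  refine (congrArg RingHom.Flat ?_).mp h4
  exact RingHom.ext fun a => rfl

variable {R T A R₀ : Type u} [CommRing R] [CommRing T] [CommRing A] [CommRing R₀]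

/-- An ideal lifting a principal ideal with flat quotient has flat quotient iff it is principal regular. -/
theorem flat_iff_principal (p : ℕ) [Fact p.Prime] [Algebra (ZMod (p ^ 2)) R] [Module.Flat (ZMod (p ^ 2)) R]
    (hT : ∀ a : T, (p : T) * a = 0 → a ∈ Ideal.span {(p : T)})
    (ψ : R →+* T) (π : T →+* A) (hπ : Function.Surjective π) (hπk : RingHom.ker π = Ideal.span {(p : T)})
    (σ : R →+* R₀) (hσ : Function.Surjective σ) (hσk : RingHom.ker σ = Ideal.span {(p : R)})
    (ψ₀ : R₀ →+* A) (hcomm : π.comp ψ = ψ₀.comp σ)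
    (I : Ideal T) (t₀ : A) (ht₀ : t₀ ∈ nonZeroDivisors A) (hI : I.map π = Ideal.span {t₀})
    (hflat : ((Ideal.Quotient.mk (I.map π)).comp ψ₀).Flat) :
    ((Ideal.Quotient.mk I).comp ψ).Flat ↔ ∃ t ∈ nonZeroDivisors T, I = Ideal.span {t} := by
  have hp2 : (p : T) * p = 0 := by
    have h : ((p : ZMod (p ^ 2)) * p) = 0 := by rw [← pow_two, ← Nat.cast_pow, ZMod.natCast_self]
    have := congrArg (ψ.comp (algebraMap (ZMod (p ^ 2)) R)) h
    rwa [map_mul, map_natCast, map_zero] at this
  have hπp : ∀ b : T, π ((p : T) * b) = 0 := fun b => by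
    rw [← RingHom.mem_ker, hπk]; exact Ideal.mul_mem_right _ _ (Ideal.mem_span_singleton_self _)
  letI : Algebra R (T ⧸ I) := ((Ideal.Quotient.mk I).comp ψ).toAlgebra
  let K : Ideal (T ⧸ I) := (Ideal.span {(p : R)}).map (algebraMap R (T ⧸ I))
  -- the reduction of the quotient
  let χ : T →+* (T ⧸ I) ⧸ K := (Ideal.Quotient.mk K).comp (Ideal.Quotient.mk I)
  have hχ : Function.Surjective χ := Ideal.Quotient.mk_surjective.comp Ideal.Quotient.mk_surjective
  let ξ : T →+* A ⧸ I.map π := (Ideal.Quotient.mk _).comp π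
  have hξ : Function.Surjective ξ := Ideal.Quotient.mk_surjective.comp hπ
  have hkξ : RingHom.ker ξ = I ⊔ Ideal.span {(p : T)} := by
    rw [show RingHom.ker ξ = (RingHom.ker (Ideal.Quotient.mk (I.map π))).comap π from rfl, Ideal.mk_ker,
      Ideal.comap_map_of_surjective _ hπ, show Ideal.comap π ⊥ = RingHom.ker π from rfl, hπk]
  have hkχ : RingHom.ker χ = I ⊔ Ideal.span {(p : T)} := by
    rw [show RingHom.ker χ = (RingHom.ker (Ideal.Quotient.mk K)).comap (Ideal.Quotient.mk I) from rfl, Ideal.mk_ker]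
    have : K = (Ideal.span {(p : T)}).map (Ideal.Quotient.mk I) := by
      simp only [K, Ideal.map_span, Set.image_singleton, map_natCast]
    rw [this, Ideal.comap_map_of_surjective _ Ideal.Quotient.mk_surjective,
      show Ideal.comap (Ideal.Quotient.mk I) ⊥ = RingHom.ker (Ideal.Quotient.mk I) from rfl, Ideal.mk_ker, sup_comm]
  let e : A ⧸ I.map π ≃+* (T ⧸ I) ⧸ K := (RingHom.quotientKerEquivOfSurjective hξ).symm.trans
    ((Ideal.quotEquivOfEq (hkξ.trans hkχ.symm)).trans (RingHom.quotientKerEquivOfSurjective hχ))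
  have he : ∀ x : T, e (ξ x) = χ x := fun x => by
    have h : (RingHom.quotientKerEquivOfSurjective hξ).symm (ξ x) = Ideal.Quotient.mk _ x := by
      rw [RingEquiv.symm_apply_eq]; rfl
    simp only [e, RingEquiv.trans_apply, h]
    rfl
  let e₁ : R ⧸ Ideal.span {(p : R)} ≃+* R₀ :=
    (Ideal.quotEquivOfEq hσk.symm).trans (RingHom.quotientKerEquivOfSurjective hσ)
  have hB : Module.Flat (R ⧸ Ideal.span {(p : R)}) ((T ⧸ I) ⧸ K) := by
    refine RingHom.flat_algebraMap_iff.1 ?_
    have h := ((RingHom.Flat.of_bijective (f := e₁.toRingHom) e₁.bijective).comp hflat).comp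
      (RingHom.Flat.of_bijective (f := e.toRingHom) e.bijective)
    refine (congrArg RingHom.Flat (Ideal.Quotient.ringHom_ext (RingHom.ext fun r => ?_))).mp h
    show e (Ideal.Quotient.mk _ (ψ₀ (σ r))) = χ (ψ r)
    rw [← RingHom.comp_apply ψ₀, ← hcomm]
    exact he (ψ r)
  have key := Groth.Agent.S16742.result p R (T ⧸ I) hB
  change Module.Flat R (T ⧸ I) ↔ _
  refine key.trans ⟨fun h => ?_, ?_⟩
  · obtain ⟨t, htI, rfl⟩ := (Ideal.mem_map_iff_of_surjective π hπ).1
      (hI.ge (Ideal.mem_span_singleton_self t₀))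
    -- reduction step: an element of I is a multiple of t up to p I
    have step : ∀ a ∈ I, ∃ c, ∃ i ∈ I, a = c * t + (p : T) * i := by
      intro a ha
      obtain ⟨c₀, hc₀⟩ := Ideal.mem_span_singleton'.1 (hI.le (Ideal.mem_map_of_mem π ha))
      obtain ⟨c, rfl⟩ := hπ c₀
      have : a - c * t ∈ RingHom.ker π := by rw [RingHom.mem_ker, map_sub, map_mul, hc₀, sub_self]
      rw [hπk] at this
      obtain ⟨z, hz⟩ := Ideal.mem_span_singleton'.1 this
      have hpz : (p : T) * z ∈ I := by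
        rw [mul_comm, hz]
        exact sub_mem ha (Ideal.mul_mem_left _ _ htI)
      obtain ⟨w, hw⟩ := Ideal.mem_span_singleton'.1 (h (Ideal.Quotient.mk I z) (by
        rw [← map_natCast (Ideal.Quotient.mk I), ← map_mul]; exact Ideal.Quotient.eq_zero_iff_mem.2 hpz))
      obtain ⟨w, rfl⟩ := Ideal.Quotient.mk_surjective w
      rw [← map_natCast (Ideal.Quotient.mk I), ← map_mul, eq_comm, Ideal.Quotient.eq] at hw
      refine ⟨c, _, hw, ?_⟩
      linear_combination (-1 : T) * hz + w * hp2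
    refine ⟨t, mem_nonZeroDivisors_iff_right.2 fun a ha => ?_, le_antisymm (fun a ha => ?_)
      ((Ideal.span_singleton_le_iff_mem _).2 htI)⟩
    · have h0 : π a = 0 := mem_nonZeroDivisors_iff_right.1 ht₀ _ (by rw [← map_mul, ha, map_zero])
      rw [← RingHom.mem_ker, hπk] at h0
      obtain ⟨b, rfl⟩ := Ideal.mem_span_singleton'.1 h0
      obtain ⟨d, hd⟩ := Ideal.mem_span_singleton'.1 (hT (b * t) (by rw [← ha]; ring))
      have h1 : π b = 0 := mem_nonZeroDivisors_iff_right.1 ht₀ _ (by rw [← map_mul, ← hd, mul_comm]; exact hπp d)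
      rw [← RingHom.mem_ker, hπk] at h1
      obtain ⟨b', rfl⟩ := Ideal.mem_span_singleton'.1 h1
      rw [mul_assoc, hp2, mul_zero]
    · obtain ⟨c, i, hi, rfl⟩ := step a ha
      obtain ⟨c', i', -, rfl⟩ := step i hi
      exact Ideal.mem_span_singleton'.2 ⟨c + (p : T) * c', by linear_combination (- i') * hp2⟩
  · rintro ⟨t, -, rfl⟩ b hb
    obtain ⟨a, rfl⟩ := Ideal.Quotient.mk_surjective b
    rw [← map_natCast (Ideal.Quotient.mk (Ideal.span {t})), ← map_mul, Ideal.Quotient.eq_zero_iff_mem] at hb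
    obtain ⟨c, hc⟩ := Ideal.mem_span_singleton'.1 hb
    have hπt : π t ∈ nonZeroDivisors A := by
      obtain ⟨v, hv⟩ := Ideal.mem_span_singleton'.1 (hI.ge (Ideal.mem_span_singleton_self t₀) |> fun h => by
        rwa [Ideal.map_span, Set.image_singleton] at h)
      rw [mem_nonZeroDivisors_iff_right]
      intro x hx
      refine mem_nonZeroDivisors_iff_right.1 ht₀ _ ?_
      rw [← hv, mul_comm v, ← mul_assoc, hx, zero_mul]
    have h0 : π c = 0 := mem_nonZeroDivisors_iff_right.1 hπt _ (by rw [← map_mul, hc]; exact hπp a)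
    rw [← RingHom.mem_ker, hπk] at h0
    obtain ⟨d, rfl⟩ := Ideal.mem_span_singleton'.1 h0
    obtain ⟨z, hz⟩ := Ideal.mem_span_singleton'.1 (hT (a - d * t) (by linear_combination (-1 : T) * hc))
    refine Ideal.mem_span_singleton'.2 ⟨Ideal.Quotient.mk _ z, ?_⟩
    rw [← map_natCast (Ideal.Quotient.mk (Ideal.span {t})), ← map_mul, Ideal.Quotient.eq, hz]
    exact Ideal.mem_span_singleton'.2 ⟨-d, by ring⟩

end NCDLiftLib
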