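import Groth.Agent.NCDLiftLib.Main
import Groth.Agent.TransLib.LiftSmooth

/-!
# Local existence of flat lifts of normal crossing pairs
-/

set_option autoImplicit false
set_option maxHeartbeats 1000000
set_option backward.isDefEq.respectTransparency false
universe u
open CategoryTheory CategoryTheory.Limits AlgebraicGeometry
open scoped TensorProduct

namespace NCDLiftLib

/-- A smooth algebra lifts, with a cocartesian square, along a surjection. -/
theorem exists_smooth_pushout (A A₀ B₀ : Type u) [CommRing A] [CommRing A₀] [CommRing B₀] [Algebra A A₀] [Algebra A₀ B₀]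
    [Algebra A B₀] [IsScalarTower A A₀ B₀] [Algebra.Smooth A₀ B₀] (hs : Function.Surjective (algebraMap A A₀)) :
    ∃ (B : Type u) (_ : CommRing B) (_ : Algebra A B) (_ : Algebra.Smooth A B) (_ : Algebra B B₀)
      (_ : IsScalarTower A B B₀), Algebra.IsPushout A A₀ B B₀ ∧ Function.Surjective (algebraMap B B₀) ∧
        RingHom.ker (algebraMap B B₀) = (RingHom.ker (algebraMap A A₀)).map (algebraMap A B) := by
  let I := RingHom.ker (algebraMap A A₀)
  let e₀ : (A ⧸ I) ≃+* A₀ := RingHom.quotientKerEquivOfSurjective hs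
  letI algI : Algebra (A ⧸ I) B₀ := ((algebraMap A₀ B₀).comp e₀.toRingHom).toAlgebra
  letI algIA : Algebra (A ⧸ I) A₀ := e₀.toRingHom.toAlgebra
  haveI : IsScalarTower (A ⧸ I) A₀ B₀ := IsScalarTower.of_algebraMap_eq fun _ => rfl
  haveI : Algebra.Smooth (A ⧸ I) A₀ :=
    Algebra.Smooth.of_equiv (AlgEquiv.ofRingEquiv (f := e₀) fun _ => rfl)
  haveI : Algebra.Smooth (A ⧸ I) B₀ := Algebra.Smooth.comp (A ⧸ I) A₀ B₀
  obtain ⟨B, _, _, hB, ⟨e⟩⟩ := TransLib.exists_smooth_lift (A₀ := B₀) I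
  haveI := hB
  let K : Ideal B := I.map (algebraMap A B)
  letI algBB : Algebra B B₀ := (e.toAlgHom.toRingHom.comp (Ideal.Quotient.mk K)).toAlgebra
  haveI : IsScalarTower A B B₀ := IsScalarTower.of_algebraMap_eq fun a => by
    change algebraMap A B₀ a = e (Ideal.Quotient.mk K (algebraMap A B a))
    rw [IsScalarTower.algebraMap_apply A A₀ B₀]
    exact (e.commutes (Ideal.Quotient.mk I a)).symm
  have hsB : Function.Surjective (algebraMap B B₀) := e.surjective.comp Ideal.Quotient.mk_surjective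
  let χ : A₀ ⊗[A] B →ₐ[A₀] B₀ :=
    Algebra.TensorProduct.lift (Algebra.ofId A₀ B₀) (IsScalarTower.toAlgHom A B B₀) fun _ _ => Commute.all _ _
  have h1 : ∀ z : A₀ ⊗[A] B, ∃ b : B, (1 : A₀) ⊗ₜ b = z := fun z => by
    induction z using TensorProduct.induction_on with
    | zero => exact ⟨0, TensorProduct.tmul_zero _ _⟩
    | tmul a b =>
      obtain ⟨a, rfl⟩ := hs a
      exact ⟨a • b, by rw [TensorProduct.tmul_smul, TensorProduct.smul_tmul', ← Algebra.algebraMap_eq_smul_one]⟩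
    | add z w hz hw =>
      obtain ⟨b, rfl⟩ := hz
      obtain ⟨c, rfl⟩ := hw
      exact ⟨b + c, TensorProduct.tmul_add _ _ _⟩
  have hχb : ∀ b : B, χ ((1 : A₀) ⊗ₜ b) = algebraMap B B₀ b := fun b => by simp [χ]
  have hker : ∀ b ∈ K, (1 : A₀) ⊗ₜ[A] b = 0 := fun b hb => by
    let ir : B →+* A₀ ⊗[A] B := (Algebra.TensorProduct.includeRight : B →ₐ[A] A₀ ⊗[A] B).toRingHom
    have hle : K ≤ RingHom.ker ir := Ideal.map_le_iff_le_comap.mpr fun a ha => by
      change (1 : A₀) ⊗ₜ[A] algebraMap A B a = 0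
      rw [Algebra.algebraMap_eq_smul_one, TensorProduct.tmul_smul, TensorProduct.smul_tmul',
        ← Algebra.algebraMap_eq_smul_one, show algebraMap A A₀ a = 0 from ha, TensorProduct.zero_tmul]
    exact hle hb
  have hbij : Function.Bijective χ := by
    refine ⟨(injective_iff_map_eq_zero χ).mpr fun z hz => ?_, fun y => ?_⟩
    · obtain ⟨b, rfl⟩ := h1 z
      rw [hχb] at hz
      exact hker b (Ideal.Quotient.eq_zero_iff_mem.mp (e.injective (hz.trans (map_zero e).symm)))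
    · obtain ⟨b, rfl⟩ := hsB y
      exact ⟨_, hχb b⟩
  haveI hpush : Algebra.IsPushout A A₀ B B₀ :=
    ⟨IsBaseChange.of_equiv (AlgEquiv.ofBijective χ hbij).toLinearEquiv fun b => hχb b⟩
  refine ⟨B, inferInstance, inferInstance, hB, algBB, inferInstance, hpush, hsB, Ideal.ext fun b => ?_⟩
  rw [RingHom.mem_ker, ← Ideal.Quotient.eq_zero_iff_mem (I := K)]
  exact ⟨fun h => e.injective (h.trans (map_zero e).symm), fun h => (congrArg e h).trans (map_zero e)⟩

variable (p : ℕ) [Fact p.Prime] {Sl S X : Scheme.{u}}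

/-- Local flat lift of a normal crossing pair. -/
theorem exists_lift (gS : Sl ⟶ Spec (CommRingCat.of (ULift.{u} (ZMod (p ^ 2))))) [Flat gS]
    (iS : S ⟶ Sl) (fS : S ⟶ Spec (CommRingCat.of (ULift.{u} (ZMod p))))
    (hS : IsPullback iS fS gS (Spec.map (CommRingCat.ofHom (redHom p))))
    (f : X ⟶ S) [Smooth f] {r : ℕ} (D : Fin r → X.IdealSheafData) (hD : LogNCD.IsNCD D f) (x : X) :
    ∃ U : X.Opens, x ∈ U ∧ ∃ (Ul : Scheme.{u}) (g : Ul ⟶ Sl) (j : (U : Scheme.{u}) ⟶ Ul),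
      Flat g ∧ IsPullback j (U.ι ≫ f) g iS ∧
        ∃ Dl : Fin r → Ul.IdealSheafData, ∀ m, (Dl m).comap j = (D m).comap U.ι ∧ Flat ((Dl m).subschemeι ≫ g) := by
  classical
  haveI := isClosedImmersion_mod p hS
  obtain ⟨W, hW, -⟩ := BlowUpLib.exists_affine (iS (f x)) (W := (⊤ : Sl.Opens)) trivial
  choose T hxT t ht hT using fun m => isEffCartier_of_ncd f hD m x
  obtain ⟨U, hxU, hUle⟩ := BlowUpLib.exists_affine x
    (W := (Finset.univ.inf fun m => (T m).1) ⊓ f ⁻¹ᵁ (iS ⁻¹ᵁ W.1)) ⟨by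
      refine (SetLike.mem_coe (p := Finset.univ.inf fun m => (T m).1)).1 ?_
      rw [TopologicalSpace.Opens.coe_finset_inf]
      simp [hxT], hW⟩
  have hle : ∀ m, U.1 ≤ (T m).1 := fun m => hUle.trans (inf_le_left.trans (Finset.inf_le (Finset.mem_univ m)))
  have e' : U.1 ≤ f ⁻¹ᵁ (iS ⁻¹ᵁ W.1) := hUle.trans inf_le_right
  let W₀ : S.affineOpens := ⟨iS ⁻¹ᵁ W.1, W.2.preimage iS⟩
  let φ := iS.app W.1
  let ψ := f.appLE W₀.1 U.1 e'
  obtain ⟨-, -, hs, hk⟩ := chart_mod p gS iS fS hS W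
  letI := φ.hom.toAlgebra
  letI := ψ.hom.toAlgebra
  letI := (ψ.hom.comp φ.hom).toAlgebra
  haveI : IsScalarTower Γ(Sl, W.1) Γ(S, W₀.1) Γ(X, U.1) := IsScalarTower.of_algebraMap_eq fun _ => rfl
  haveI : Algebra.Smooth Γ(S, W₀.1) Γ(X, U.1) := by
    have h : ψ.hom.Smooth := HasRingHomProperty.appLE @Smooth f inferInstance W₀ U e'
    exact h
  obtain ⟨B, _, _, hB, _, _, hpush, hsB, hkB⟩ := exists_smooth_pushout Γ(Sl, W.1) Γ(S, W₀.1) Γ(X, U.1) hs
  haveI := hB
  obtain ⟨aR, hflR⟩ := flat_sections p gS W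
  letI := aR
  haveI := hflR
  have hBfl : (algebraMap Γ(Sl, W.1) B).Flat := RingHom.flat_algebraMap_iff.2 inferInstance
  have hT' : ∀ a : B, (p : B) * a = 0 → a ∈ Ideal.span {(p : B)} := by
    letI : Algebra (ZMod (p ^ 2)) B := ((algebraMap Γ(Sl, W.1) B).comp (algebraMap (ZMod (p ^ 2)) Γ(Sl, W.1))).toAlgebra
    haveI : Module.Flat (ZMod (p ^ 2)) B := (RingHom.flat_algebraMap_iff.2 hflR).comp hBfl
    exact fun a ha => torsion_of_flat p B a ha
  have hπk : RingHom.ker (algebraMap B Γ(X, U.1)) = Ideal.span {(p : B)} := by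
    rw [hkB, show RingHom.ker (algebraMap Γ(Sl, W.1) Γ(S, W₀.1)) = _ from hk, Ideal.map_span, Set.image_singleton,
      map_natCast]
  -- lifts of the equations
  have hgen : ∀ m, ∃ t' ∈ nonZeroDivisors Γ(X, U.1), (D m).ideal U = Ideal.span {t'} := fun m =>
    ⟨(X.presheaf.map (homOfLE (hle m)).op).hom (t m), by
      refine BlowUpLib.nzd_of_flat _ ?_ (ht m)
      have h := HasRingHomProperty.appLE @Flat (𝟙 X) inferInstance (T m) U (hle m)
      simpa [Scheme.Hom.appLE] using h, by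
      rw [← (D m).map_ideal (U := U) (V := T m) (hle m), hT m, Ideal.map_span, Set.image_singleton]; rfl⟩
  choose t₀ ht₀ hD₀ using hgen
  choose tl htl using fun m => hsB (t₀ m)
  let πs := Spec.map (CommRingCat.ofHom (algebraMap B Γ(X, U.1)))
  let g : Spec (CommRingCat.of B) ⟶ Sl := Spec.map (CommRingCat.ofHom (algebraMap Γ(Sl, W.1) B)) ≫ W.2.fromSpec
  haveI : IsOpenImmersion W.2.fromSpec := W.2.isOpenImmersion_fromSpec
  refine ⟨U.1, hxU, Spec (CommRingCat.of B), g, U.2.isoSpec.hom ≫ πs, ?_, ?_,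
    fun m => BlowUpLib.specIdeal (Ideal.span {tl m}), fun m => ⟨?_, ?_⟩⟩
  · haveI := Groth.Agent.BlowBCLib.flat_specMap hBfl
    exact inferInstanceAs (Flat (Spec.map (CommRingCat.ofHom (algebraMap Γ(Sl, W.1) B)) ≫ W.2.fromSpec))
  · have hfs : Spec.map φ ≫ W.2.fromSpec = W₀.2.fromSpec ≫ iS := by
      rw [show φ = iS.appLE W.1 W₀.1 le_rfl from (Scheme.Hom.appLE_eq_app iS).symm]
      exact IsAffineOpen.SpecMap_appLE_fromSpec iS W.2 W₀.2 le_rfl
    have hpbU : IsPullback W₀.2.fromSpec (Spec.map φ) iS W.2.fromSpec := by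
      refine (IsOpenImmersion.isPullback (Spec.map φ) W₀.2.fromSpec W.2.fromSpec iS hfs.symm ?_).flip
      rw [IsAffineOpen.opensRange_fromSpec, IsAffineOpen.opensRange_fromSpec]
    have h1 := isPullback_SpecMap_of_isPushout (CommRingCat.ofHom (algebraMap Γ(Sl, W.1) B)) φ
      (CommRingCat.ofHom (algebraMap B Γ(X, U.1))) ψ
      (CommRingCat.isPushout_iff_isPushout.mpr (Algebra.IsPushout.symm hpush))
    have h2 := h1.paste_vert hpbU.flip
    have hψ : Spec.map ψ ≫ W₀.2.fromSpec = U.2.fromSpec ≫ f := IsAffineOpen.SpecMap_appLE_fromSpec f W₀.2 U.2 e'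
    rw [hψ] at h2
    refine h2.of_iso U.2.isoSpec.symm (Iso.refl _) (Iso.refl _) (Iso.refl _) ?_ ?_ ?_ ?_
    · simp [πs]
    · simp only [Iso.symm_hom, Iso.refl_hom, Category.comp_id]
      rw [← IsAffineOpen.isoSpec_inv_ι, Category.assoc]
    · simp [g]
    · simp
  · have hs : U.2.isoSpec.hom ≫ U.2.fromSpec = U.1.ι := by rw [← IsAffineOpen.isoSpec_inv_ι, Iso.hom_inv_id_assoc]
    rw [← hs, Scheme.IdealSheafData.comap_comp, Scheme.IdealSheafData.comap_comp,
      BlowUpLib.comap_fromSpec (D m) U, hD₀ m, BlowUpLib.comap_specIdeal, Ideal.map_span, Set.image_singleton, htl m]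
  · refine Groth.Agent.BlowBCLib.flat_subscheme_of_charts g _ fun y =>
      ⟨B, inferInstance, 𝟙 _, inferInstance, Ideal.span {tl m}, ⟨y, rfl⟩, Scheme.IdealSheafData.comap_id _, ?_⟩
    haveI := flat_of_ncd f hD m
    have hmap : (Ideal.span {tl m}).map (algebraMap B Γ(X, U.1)) = (D m).ideal U := by
      rw [Ideal.map_span, Set.image_singleton, htl m, hD₀ m]
    have hfl : ((Ideal.Quotient.mk (Ideal.span {tl m})).comp (algebraMap Γ(Sl, W.1) B)).Flat := by
      refine (flat_iff_principal p hT' _ (algebraMap B Γ(X, U.1)) hsB hπk φ.hom hs hk ψ.hom ?_ _ (t₀ m) (ht₀ m)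
        (hmap.trans (hD₀ m)) ?_).2 ⟨tl m, mem_nonZeroDivisors_iff_right.2 fun b hb => ?_, rfl⟩
      · exact (IsScalarTower.algebraMap_eq Γ(Sl, W.1) B Γ(X, U.1)).symm.trans rfl
      · rw [hmap]
        exact Groth.Agent.BlowBCLib.flat_quot_appLE f (D m) W₀ U e'
      · have h0 : algebraMap B Γ(X, U.1) b = 0 := mem_nonZeroDivisors_iff_right.1 (ht₀ m) _ (by
          rw [← htl m, ← map_mul, hb, map_zero])
        rw [← RingHom.mem_ker, hπk] at h0
        obtain ⟨c, rfl⟩ := Ideal.mem_span_singleton'.1 h0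
        obtain ⟨d, hd⟩ := Ideal.mem_span_singleton'.1 (hT' (c * tl m) (by rw [← hb]; ring))
        have h1 : algebraMap B Γ(X, U.1) c = 0 := mem_nonZeroDivisors_iff_right.1 (ht₀ m) _ (by
          rw [← htl m, ← map_mul, ← hd, ← RingHom.mem_ker, hπk]
          exact Ideal.mul_mem_left _ _ (Ideal.mem_span_singleton_self _))
        rw [← RingHom.mem_ker, hπk] at h1
        obtain ⟨c', rfl⟩ := Ideal.mem_span_singleton'.1 h1
        have hp2 : (p : B) * p = 0 := by
          have h : ((p : ZMod (p ^ 2)) * p) = 0 := by rw [← pow_two, ← Nat.cast_pow, ZMod.natCast_self]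
          have := congrArg ((algebraMap Γ(Sl, W.1) B).comp (algebraMap (ZMod (p ^ 2)) Γ(Sl, W.1))) h
          rwa [map_mul, map_natCast, map_zero] at this
        rw [mul_assoc, hp2, mul_zero]
    rw [Category.id_comp]
    haveI := Groth.Agent.BlowBCLib.flat_specMap hfl
    show Flat (Spec.map (CommRingCat.ofHom (Ideal.Quotient.mk (Ideal.span {tl m}))) ≫
      Spec.map (CommRingCat.ofHom (algebraMap Γ(Sl, W.1) B)) ≫ W.2.fromSpec)
    rw [← Category.assoc, ← Spec.map_comp]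
    exact inferInstanceAs (Flat (Spec.map (CommRingCat.ofHom ((Ideal.Quotient.mk (Ideal.span {tl m})).comp (algebraMap Γ(Sl, W.1) B))) ≫ W.2.fromSpec))

end NCDLiftLib
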