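import Groth.Agent.NCDLiftLib.Tangent
import Groth.Agent.HilbPtsLib.Split

/-!
# Lifting morphisms compatibly with normal crossing divisors
-/

set_option autoImplicit false
set_option maxHeartbeats 2000000
set_option backward.isDefEq.respectTransparency false
universe u
open CategoryTheory CategoryTheory.Limits AlgebraicGeometry
open scoped DualNumber

namespace NCDLiftLib

variable (p : ℕ) [Fact p.Prime] {Sl S X Y X₁ Yl : Scheme.{u}}

theorem p_sq_sections {Z : Scheme.{u}} (t : Z ⟶ Spec (CommRingCat.of (ULift.{u} (ZMod (p ^ 2))))) [Flat t]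
    (T : Z.affineOpens) : (p : Γ(Z, T.1)) * p = 0 := by
  obtain ⟨a, -⟩ := flat_sections p t T
  have h : ((p : ZMod (p ^ 2)) * p) = 0 := by rw [← pow_two, ← Nat.cast_pow, ZMod.natCast_self]
  have := congrArg (@algebraMap _ Γ(Z, T.1) _ _ a) h
  rwa [map_mul, map_natCast, map_zero] at this

/-- A morphism of reductions lifts, carrying given divisors into given ideals. -/
theorem exists_lift_le (gS : Sl ⟶ Spec (CommRingCat.of (ULift.{u} (ZMod (p ^ 2))))) [Flat gS]
    (iS : S ⟶ Sl) (fS : S ⟶ Spec (CommRingCat.of (ULift.{u} (ZMod p))))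
    (hS : IsPullback iS fS gS (Spec.map (CommRingCat.ofHom (redHom p)))) [IsNoetherian S]
    (f : X ⟶ S) [IsAffine X] [Smooth f] (g₁ : X₁ ⟶ Sl) [Flat g₁] (j₁ : X ⟶ X₁) (h₁ : IsPullback j₁ f g₁ iS)
    (fY : Y ⟶ S) [IsAffine Y] [Smooth fY] (g₂ : Yl ⟶ Sl) [Flat g₂] (jY : Y ⟶ Yl) (hY : IsPullback jY fY g₂ iS)
    (φ : X ⟶ Y) (hφ : φ ≫ fY = f) {r : ℕ} (E₂ : Fin r → Yl.IdealSheafData)
    (hE₂ : ∀ i, BlowUp.IsEffCartierIdeal (E₂ i)) (T : Fin r → X₁.IdealSheafData)
    (hT : ∀ i, (T i).comap j₁ = ((E₂ i).comap jY).comap φ)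
    (htan : ∀ (k : Type u) [Field k] (ξ : Spec (CommRingCat.of k) ⟶ X) (i : Fin r),
      φ (ξ (IsLocalRing.closedPoint k)) ∈ ((E₂ i).comap jY).support →
      ∃ v : Spec (CommRingCat.of (DualNumber k)) ⟶ Y, Spec.map (CommRingCat.ofHom (dualFst k)) ≫ v = ξ ≫ φ ∧
        v ≫ fY = Spec.map (CommRingCat.ofHom (dualInl k)) ≫ ξ ≫ f ∧
        ((E₂ i).comap jY).comap v = BlowUpLib.specIdeal (Ideal.span {(DualNumber.eps : DualNumber k)}) ∧
        ∀ j, j ≠ i → φ (ξ (IsLocalRing.closedPoint k)) ∈ ((E₂ j).comap jY).support →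
          ((E₂ j).comap jY).comap v = BlowUpLib.specIdeal ⊥) :
    ∃ h : X₁ ⟶ Yl, j₁ ≫ h = φ ≫ jY ∧ h ≫ g₂ = g₁ ∧ ∀ i, (E₂ i).comap h ≤ T i := by
  classical
  haveI := isAffine_of_lift p hS h₁
  haveI := isAffine_of_lift p hS hY
  haveI := isClosedImmersion_mod p (h₁.paste_vert hS)
  haveI := smooth_of_lift p gS iS fS hS fY g₂ jY hY
  let σ₀ : X ⟶ pullback g₁ g₂ := pullback.lift j₁ (φ ≫ jY) (by rw [h₁.w, Category.assoc, hY.w, reassoc_of% hφ])
  let m := pullback.mapDesc g₁ g₂ (terminal.from Sl)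
  haveI : IsClosedImmersion (σ₀ ≫ m) := by
    have hm : (σ₀ ≫ m) ≫ pullback.fst _ _ = j₁ := by
      rw [Category.assoc]
      simp [m, σ₀, pullback.mapDesc, pullback.map]
    haveI : IsClosedImmersion ((σ₀ ≫ m) ≫ pullback.fst _ _) := by rw [hm]; infer_instance
    exact IsClosedImmersion.of_comp (σ₀ ≫ m) (pullback.fst _ _)
  obtain ⟨P', hP', hσP⟩ := exists_affine_nhd m σ₀
  have hX := isAffineOpen_top X
  have hX₁ := isAffineOpen_top X₁
  let A := Γ(X, ⊤)
  let A₁ := Γ(X₁, ⊤)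
  let C := Γ(pullback g₁ g₂, P')
  have eσ : (⊤ : X.Opens) ≤ σ₀ ⁻¹ᵁ P' := fun x _ => hσP x
  have eτ : (⊤ : X.Opens) ≤ j₁ ⁻¹ᵁ (⊤ : X₁.Opens) := le_top
  have ef : P' ≤ (pullback.fst g₁ g₂) ⁻¹ᵁ (⊤ : X₁.Opens) := le_top
  let π : A₁ →+* A := (j₁.appLE ⊤ ⊤ eτ).hom
  let σs : C →+* A := (σ₀.appLE P' ⊤ eσ).hom
  let a₁ : A₁ →+* C := ((pullback.fst g₁ g₂).appLE ⊤ P' ef).hom
  have hπeq : j₁.appLE ⊤ ⊤ eτ = j₁.app ⊤ := (Scheme.Hom.app_eq_appLE _).symm
  obtain ⟨-, -, hπs, hπk⟩ := chart_mod p (g₁ ≫ gS) j₁ (f ≫ fS) (h₁.paste_vert hS) ⟨⊤, hX₁⟩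
  have hπs' : Function.Surjective π := by rw [show π = (j₁.app ⊤).hom from congrArg CommRingCat.Hom.hom hπeq]; exact hπs
  have hπk' : RingHom.ker π = Ideal.span {(p : A₁)} := by
    rw [show π = (j₁.app ⊤).hom from congrArg CommRingCat.Hom.hom hπeq]; exact hπk
  letI : Algebra A₁ A := π.toAlgebra
  letI : Algebra A₁ C := a₁.toAlgebra
  letI : Algebra C A := σs.toAlgebra
  have hσfst : σ₀ ≫ pullback.fst g₁ g₂ = j₁ := pullback.lift_fst _ _ _
  have hσsnd : σ₀ ≫ pullback.snd g₁ g₂ = φ ≫ jY := pullback.lift_snd _ _ _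
  haveI : IsScalarTower A₁ C A := IsScalarTower.of_algebraMap_eq' <| by
    show π = σs.comp a₁
    rw [← CommRingCat.hom_comp, Scheme.Hom.appLE_comp_appLE]
    simp only [π, hσfst]
  haveI : Algebra.Smooth A₁ C := by
    have h : a₁.Smooth := HasRingHomProperty.appLE @Smooth (pullback.fst g₁ g₂) inferInstance ⟨⊤, hX₁⟩ ⟨P', hP'⟩ ef
    exact h
  have hp2 := p_sq_sections p (g₁ ≫ gS) ⟨⊤, hX₁⟩
  haveI : IsLocallyNoetherian X := LocallyOfFiniteType.isLocallyNoetherian f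
  haveI : IsNoetherianRing A := IsLocallyNoetherian.component_noetherian ⟨⊤, hX⟩
  haveI : IsNoetherianRing A₁ := by
    refine FComplLib.isNoetherianRing_of_thickening π hπs' ⟨2, ?_⟩ ?_
    · rw [hπk', Ideal.span_singleton_pow, pow_two, hp2, Ideal.span_singleton_eq_bot.2 rfl]; rfl
    · rw [hπk']; exact Submodule.fg_span_singleton _
  haveI : IsNoetherianRing C := Algebra.FiniteType.isNoetherianRing A₁ C
  let EI : Fin r → Ideal C := fun i => ((E₂ i).comap (pullback.snd g₁ g₂)).ideal ⟨P', hP'⟩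
  let TI : Fin r → Ideal A₁ := fun i => (T i).ideal ⟨⊤, hX₁⟩
  have hTI : ∀ i, (TI i).map π = (((E₂ i).comap jY).comap φ).ideal ⟨⊤, hX⟩ := fun i => by
    rw [← hT i]; exact RGFlatLib.ideal_comap_appLE j₁ (T i) hX₁ hX eτ
  have hEI : ∀ i, (EI i).map σs = (TI i).map π := fun i => by
    rw [hTI i, ← Scheme.IdealSheafData.comap_comp, ← hσsnd, Scheme.IdealSheafData.comap_comp]
    exact RGFlatLib.ideal_comap_appLE σ₀ _ hP' hX eσ
  haveI : IsOpenImmersion hP'.fromSpec := hP'.isOpenImmersion_fromSpec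
  have hloc : ∀ q : Ideal A, q.IsMaximal → ∀ i, (TI i).map (algebraMap A₁ A) ≤ q →
      ∃ e ∈ EI i, (∃ c : C, algebraMap C A c ∉ q ∧ ∀ x ∈ EI i, c * x ∈ Ideal.span {e}) ∧
        ∃ D : Derivation A₁ C (A ⧸ q), D e ≠ 0 ∧
          ∀ j, j ≠ i → (TI j).map (algebraMap A₁ A) ≤ q → ∀ x ∈ EI j, D x = 0 := by
    intro q hq i hi
    letI : Field (A ⧸ q) := Ideal.Quotient.field q
    let k := A ⧸ q
    let ξ : Spec (CommRingCat.of k) ⟶ X := Spec.map (CommRingCat.ofHom (Ideal.Quotient.mk q)) ≫ hX.fromSpec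
    let qp : PrimeSpectrum A := ⟨q, hq.isPrime⟩
    have hpt : (Spec.map (CommRingCat.ofHom (Ideal.Quotient.mk q))) (IsLocalRing.closedPoint k) = qp := by
      refine PrimeSpectrum.ext (Ideal.ext fun a => ?_)
      show Ideal.Quotient.mk q a ∈ IsLocalRing.maximalIdeal k ↔ a ∈ q
      rw [IsLocalRing.maximalIdeal_eq_bot, Ideal.mem_bot, Ideal.Quotient.eq_zero_iff_mem]
    have hξ : ξ (IsLocalRing.closedPoint k) = hX.fromSpec qp := by
      rw [← hpt]; rfl
    have hthr : ∀ j, (TI j).map π ≤ q → φ (ξ (IsLocalRing.closedPoint k)) ∈ ((E₂ j).comap jY).support := by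
      intro j hj
      have h1 : hX.fromSpec qp ∈ (((E₂ j).comap jY).comap φ).support := by
        have h2 : hX.fromSpec qp ∈ hX.fromSpec '' PrimeSpectrum.zeroLocus (R := A)
            ((((E₂ j).comap jY).comap φ).ideal ⟨⊤, hX⟩) :=
          ⟨qp, by rw [PrimeSpectrum.mem_zeroLocus, SetLike.coe_subset_coe, ← hTI j]; exact hj, rfl⟩
        rw [hX.fromSpec_image_zeroLocus] at h2
        exact ((Scheme.IdealSheafData.coe_support_inter (((E₂ j).comap jY).comap φ) ⟨⊤, hX⟩).ge h2).1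
      rw [Scheme.IdealSheafData.support_comap] at h1
      rw [hξ]
      exact h1
    obtain ⟨v, hv0, hvS, hvi, hvj⟩ := htan k ξ i (hthr i hi)
    let inl := Spec.map (CommRingCat.ofHom (dualInl k))
    let τ : Spec (CommRingCat.of (DualNumber k)) ⟶ pullback g₁ g₂ :=
      pullback.lift (inl ≫ ξ ≫ j₁) (v ≫ jY) (by
        simp only [Category.assoc]
        rw [h₁.w, hY.w, reassoc_of% hvS])
    have hfi : Spec.map (CommRingCat.ofHom (dualFst k)) ≫ inl = 𝟙 _ := by
      rw [← Spec.map_comp, ← CommRingCat.ofHom_comp, ← Spec.map_id]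
      congr 1
    have hτ0 : Spec.map (CommRingCat.ofHom (dualFst k)) ≫ τ = ξ ≫ σ₀ := by
      apply pullback.hom_ext
      · rw [Category.assoc, pullback.lift_fst, reassoc_of% hfi]
        simp only [Category.assoc, hσfst]
      · rw [Category.assoc, pullback.lift_snd, reassoc_of% hv0]
        simp only [Category.assoc, hσsnd]
    have hτr : Set.range τ ⊆ Set.range hP'.fromSpec := by
      rintro _ ⟨y, rfl⟩
      obtain ⟨y, rfl⟩ := surjective_specMap_dualFst k y
      rw [hP'.range_fromSpec, ← Scheme.Hom.comp_apply, hτ0, Scheme.Hom.comp_apply]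
      exact hσP _
    let Ψ : C →+* DualNumber k := (Spec.preimage (IsOpenImmersion.lift hP'.fromSpec τ hτr)).hom
    have hΨ : Spec.map (CommRingCat.ofHom Ψ) ≫ hP'.fromSpec = τ := by
      simp only [Ψ, CommRingCat.ofHom_hom, Spec.map_preimage, IsOpenImmersion.lift_fac]
    have hΨ0 : ∀ x, TrivSqZeroExt.fst (Ψ x) = Ideal.Quotient.mk q (σs x) := by
      have h0 : Spec.map (CommRingCat.ofHom Ψ ≫ CommRingCat.ofHom (dualFst k)) =
          Spec.map (σ₀.appLE P' ⊤ eσ ≫ CommRingCat.ofHom (Ideal.Quotient.mk q)) := by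
        rw [← cancel_mono hP'.fromSpec, Spec.map_comp, Spec.map_comp, Category.assoc, hΨ, hτ0]
        simp only [ξ, Category.assoc]
        rw [IsAffineOpen.SpecMap_appLE_fromSpec σ₀ hP' hX eσ]
      have h1 : (dualFst k).comp Ψ = (Ideal.Quotient.mk q).comp σs :=
        congrArg CommRingCat.Hom.hom (Spec.map_injective h0)
      exact fun x => RingHom.congr_fun h1 x
    have hΨ1 : ∀ a, Ψ (a₁ a) = TrivSqZeroExt.inl (Ideal.Quotient.mk q (π a)) := by
      haveI : IsOpenImmersion hX₁.fromSpec := hX₁.isOpenImmersion_fromSpec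
      have h0 : Spec.map ((pullback.fst g₁ g₂).appLE ⊤ P' ef ≫ CommRingCat.ofHom Ψ) =
          Spec.map ((j₁.appLE ⊤ ⊤ eτ ≫ CommRingCat.ofHom (Ideal.Quotient.mk q)) ≫ CommRingCat.ofHom (dualInl k)) := by
        rw [← cancel_mono hX₁.fromSpec, Spec.map_comp, Spec.map_comp, Spec.map_comp]
        simp only [Category.assoc]
        rw [IsAffineOpen.SpecMap_appLE_fromSpec _ hX₁ hP' ef, IsAffineOpen.SpecMap_appLE_fromSpec _ hX₁ hX eτ,
          reassoc_of% hΨ, pullback.lift_fst]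
        simp only [ξ, inl, Category.assoc]
      have h1 : Ψ.comp a₁ = (dualInl k).comp ((Ideal.Quotient.mk q).comp π) :=
        congrArg CommRingCat.Hom.hom (Spec.map_injective h0)
      exact fun a => RingHom.congr_fun h1 a
    have hmap : ∀ j, BlowUpLib.specIdeal ((EI j).map Ψ) = ((E₂ j).comap jY).comap v := fun j => by
      rw [← BlowUpLib.comap_specIdeal, ← BlowUpLib.comap_fromSpec ((E₂ j).comap (pullback.snd g₁ g₂)) ⟨P', hP'⟩,
        ← Scheme.IdealSheafData.comap_comp, hΨ, ← Scheme.IdealSheafData.comap_comp, pullback.lift_snd,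
        Scheme.IdealSheafData.comap_comp]
    have hEi : (EI i).map Ψ = Ideal.span {(DualNumber.eps : DualNumber k)} :=
      BlowUpLib.specIdeal_injective ((hmap i).trans hvi)
    have hmul : ∀ x y, TrivSqZeroExt.snd (Ψ (x * y)) =
        Ideal.Quotient.mk q (σs x) * TrivSqZeroExt.snd (Ψ y) + TrivSqZeroExt.snd (Ψ x) * Ideal.Quotient.mk q (σs y) :=
      fun x y => by rw [map_mul, DualNumber.snd_mul, hΨ0, hΨ0]
    let D₀ : C →ₗ[A₁] k :=
      { toFun := fun x => TrivSqZeroExt.snd (Ψ x)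
        map_add' := fun x y => by rw [map_add, TrivSqZeroExt.snd_add]
        map_smul' := fun a x => by
          rw [RingHom.id_apply, Algebra.smul_def, Algebra.smul_def, hmul,
            show algebraMap A₁ C a = a₁ a from rfl, hΨ1, TrivSqZeroExt.snd_inl, zero_mul, add_zero]
          have h : σs (a₁ a) = π a := by
            rw [← RingHom.comp_apply, show σs.comp a₁ = π from (IsScalarTower.algebraMap_eq A₁ C A).symm]
          rw [h]
          rfl }
    let D : Derivation A₁ C k := Derivation.mk' D₀ fun x y => by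
      show TrivSqZeroExt.snd (Ψ (x * y)) = x • TrivSqZeroExt.snd (Ψ y) + y • TrivSqZeroExt.snd (Ψ x)
      rw [hmul, Algebra.smul_def, Algebra.smul_def]
      exact congrArg₂ (· + ·) rfl (mul_comm _ _)
    -- a local generator
    let z : ↥(pullback g₁ g₂ : Scheme.{u}) := σ₀ (hX.fromSpec qp)
    obtain ⟨U, hzU, t, -, hU⟩ := hE₂ i ((pullback.snd g₁ g₂) z)
    obtain ⟨c, hcle, hzc⟩ := hP'.exists_basicOpen_le (V := (pullback.snd g₁ g₂) ⁻¹ᵁ U.1) ⟨z, hzU⟩ (hσP _)
    have hDc := hP'.basicOpen c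
    haveI := hP'.isLocalization_basicOpen c
    let ρ := algebraMap C Γ(pullback g₁ g₂, (pullback g₁ g₂).basicOpen c)
    let t' := ((pullback.snd g₁ g₂).appLE U.1 ((pullback g₁ g₂).basicOpen c) hcle).hom t
    have hgen : (EI i).map ρ = Ideal.span {t'} := by
      have h1 := RGFlatLib.ideal_comap_appLE (pullback.snd g₁ g₂) (E₂ i) U.2 hDc hcle
      rw [hU, Ideal.map_span, Set.image_singleton] at h1
      rw [show t' = ((pullback.snd g₁ g₂).appLE U.1 ((pullback g₁ g₂).basicOpen c) hcle).hom t from rfl, h1]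
      exact ((E₂ i).comap (pullback.snd g₁ g₂)).map_ideal_basicOpen ⟨P', hP'⟩ c
    obtain ⟨⟨⟨e, he⟩, ⟨_, l, rfl⟩⟩, hel⟩ := (IsLocalization.mem_map_algebraMap_iff (Submonoid.powers c)
      Γ(pullback g₁ g₂, (pullback g₁ g₂).basicOpen c)).1 (hgen.ge (Ideal.mem_span_singleton_self t'))
    have hcu : IsUnit (ρ (c ^ l)) := IsLocalization.map_units _ (⟨c ^ l, l, rfl⟩ : Submonoid.powers c)
    have hone : ∀ x ∈ EI i, ∃ K : ℕ, c ^ K * x ∈ Ideal.span {e} := by
      intro x hx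
      have h1 : ρ x ∈ (Ideal.span {e}).map ρ := by
        rw [Ideal.map_span, Set.image_singleton, ← show t' * ρ (c ^ l) = ρ e from hel,
          Ideal.span_singleton_mul_right_unit hcu, ← hgen]
        exact Ideal.mem_map_of_mem ρ hx
      obtain ⟨⟨⟨y, hy⟩, ⟨_, K, rfl⟩⟩, hxy⟩ := (IsLocalization.mem_map_algebraMap_iff (Submonoid.powers c) _).1 h1
      rw [← map_mul] at hxy
      obtain ⟨⟨_, K', rfl⟩, hK'⟩ := (IsLocalization.eq_iff_exists (Submonoid.powers c) _).1 hxy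
      refine ⟨K' + K, ?_⟩
      rw [pow_add, mul_assoc, mul_comm (c ^ K) x]
      exact hK' ▸ Ideal.mul_mem_left _ _ hy
    obtain ⟨G, hG⟩ := IsNoetherian.noetherian (EI i)
    choose! K hK using hone
    let N := ∑ x ∈ G, K x
    have hN : ∀ x ∈ EI i, c ^ N * x ∈ Ideal.span {e} := by
      intro x hx
      rw [← hG] at hx
      induction hx using Submodule.span_induction with
      | mem x hx =>
        rw [show N = (N - K x) + K x by have := Finset.single_le_sum (fun _ _ => Nat.zero_le _) hx (f := K); omega,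
          pow_add, mul_assoc]
        exact Ideal.mul_mem_left _ _ (hK x (hG ▸ Submodule.subset_span hx))
      | zero => rw [mul_zero]; exact Ideal.zero_mem _
      | add x y _ _ hx hy => rw [mul_add]; exact add_mem hx hy
      | smul a x _ hx => rw [smul_eq_mul, mul_left_comm]; exact Ideal.mul_mem_left _ _ hx
    have hσc : σs c ∉ q := by
      have h1 : hX.fromSpec qp ∈ X.basicOpen ((σ₀.appLE P' ⊤ eσ).hom c) := by
        rw [Scheme.basicOpen_appLE]
        exact ⟨trivial, hzc⟩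
      have h2 : qp ∈ hX.fromSpec ⁻¹ᵁ X.basicOpen (σs c) := h1
      rw [hX.fromSpec_preimage_basicOpen] at h2
      exact h2
    have hσcN : σs (c ^ N) ∉ q := by rw [map_pow]; exact fun h => hσc (hq.isPrime.mem_of_pow_mem N h)
    refine ⟨e, he, ⟨c ^ N, hσcN, hN⟩, D, fun hDe => ?_, fun j hne hj x hx => ?_⟩
    · have hfst : ∀ x ∈ EI i, TrivSqZeroExt.fst (Ψ x) = 0 := fun x hx => by
        obtain ⟨a, ha⟩ := Ideal.mem_span_singleton'.1 (hEi.le (Ideal.mem_map_of_mem Ψ hx))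
        rw [← ha, TrivSqZeroExt.fst_mul, DualNumber.fst_eps, mul_zero]
      have he0 : Ψ e = 0 := TrivSqZeroExt.ext (hfst e he) hDe
      have hzero : ∀ x ∈ EI i, Ψ x = 0 := fun x hx => by
        obtain ⟨y, hy⟩ := Ideal.mem_span_singleton'.1 (hN x hx)
        have h1 := congrArg Ψ hy
        rw [map_mul, map_mul, he0, mul_zero] at h1
        have h2 : IsUnit (TrivSqZeroExt.fst (Ψ (c ^ N))) := by
          rw [hΨ0, isUnit_iff_ne_zero]
          exact fun h => hσcN (Ideal.Quotient.eq_zero_iff_mem.1 h)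
        exact (TrivSqZeroExt.isUnit_iff_isUnit_fst.2 h2).mul_right_eq_zero.1 h1.symm
      have h1 : (EI i).map Ψ = ⊥ := (Ideal.map_eq_bot_iff_le_ker Ψ).2 fun x hx => hzero x hx
      rw [hEi, Ideal.span_singleton_eq_bot] at h1
      simpa using congrArg TrivSqZeroExt.snd h1
    · have h1 : (EI j).map Ψ = ⊥ := BlowUpLib.specIdeal_injective ((hmap j).trans (hvj j hne (hthr j hj)))
      have h2 : Ψ x = 0 := (Ideal.map_eq_bot_iff_le_ker Ψ).1 h1 hx
      show TrivSqZeroExt.snd (Ψ x) = 0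
      rw [h2, TrivSqZeroExt.snd_zero]
  obtain ⟨σ, hσπ, hσE⟩ := exists_adjusted_section p hp2 hπs' hπk' EI TI (fun i => (hEI i).le) hloc
  haveI : IsIso hX₁.fromSpec := by rw [IsAffineOpen.fromSpec_top]; infer_instance
  haveI : IsIso hX.fromSpec := by rw [IsAffineOpen.fromSpec_top]; infer_instance
  let h1 : X₁ ⟶ pullback g₁ g₂ := inv hX₁.fromSpec ≫ Spec.map (CommRingCat.ofHom σ.toRingHom) ≫ hP'.fromSpec
  have hh1 : hX₁.fromSpec ≫ h1 = Spec.map (CommRingCat.ofHom σ.toRingHom) ≫ hP'.fromSpec := IsIso.hom_inv_id_assoc _ _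
  have hfst : h1 ≫ pullback.fst g₁ g₂ = 𝟙 X₁ := by
    rw [← cancel_epi hX₁.fromSpec, reassoc_of% hh1, Category.comp_id,
      ← IsAffineOpen.SpecMap_appLE_fromSpec (pullback.fst g₁ g₂) hX₁ hP' ef, ← Category.assoc, ← Spec.map_comp]
    have : (pullback.fst g₁ g₂).appLE ⊤ P' ef ≫ CommRingCat.ofHom σ.toRingHom = 𝟙 _ :=
      CommRingCat.hom_ext (RingHom.ext fun a => σ.commutes a)
    rw [this, Spec.map_id, Category.id_comp]
  have hj1 : j₁ ≫ h1 = σ₀ := by
    rw [← cancel_epi hX.fromSpec, ← Category.assoc, ← IsAffineOpen.SpecMap_appLE_fromSpec j₁ hX₁ hX eτ, Category.assoc,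
      hh1, ← IsAffineOpen.SpecMap_appLE_fromSpec σ₀ hP' hX eσ, ← Category.assoc, ← Spec.map_comp]
    congr 2
    exact CommRingCat.hom_ext (RingHom.ext fun c => hσπ c)
  refine ⟨h1 ≫ pullback.snd g₁ g₂, by rw [reassoc_of% hj1, hσsnd],
    by rw [Category.assoc, ← pullback.condition, reassoc_of% hfst], fun i => Scheme.IdealSheafData.le_of_isAffine ?_⟩
  have h2 : BlowUpLib.specIdeal (((E₂ i).comap (h1 ≫ pullback.snd g₁ g₂)).ideal ⟨⊤, hX₁⟩) =
      BlowUpLib.specIdeal ((EI i).map σ.toRingHom) := by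
    rw [← BlowUpLib.comap_fromSpec _ ⟨⊤, hX₁⟩, ← Scheme.IdealSheafData.comap_comp, reassoc_of% hh1,
      ← BlowUpLib.comap_specIdeal, ← BlowUpLib.comap_fromSpec ((E₂ i).comap (pullback.snd g₁ g₂)) ⟨P', hP'⟩,
      Scheme.IdealSheafData.comap_comp, Scheme.IdealSheafData.comap_comp]
  rw [BlowUpLib.specIdeal_injective h2]
  exact hσE i

end NCDLiftLib
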