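import Mathlib
import Groth.Agent.TransLib.LiftSmooth

/-!
# Lifting and adjusting sections over a square-zero thickening by `p`
-/

set_option autoImplicit false
set_option maxHeartbeats 1000000
universe u v

namespace NCDLiftLib

section Red

variable {P B : Type u} [CommRing P] [CommRing B]

/-- A map bijective modulo `p` towards a ring without excess `p`-torsion is bijective. -/
theorem bijective_of_red (p : ℕ) (hp2 : (p : P) * p = 0) (hB : ∀ b : B, (p : B) * b = 0 → b ∈ Ideal.span {(p : B)})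
    (φ : P →+* B) (hs : ∀ b : B, ∃ x z, b = φ x + (p : B) * z)
    (hi : ∀ x : P, φ x ∈ Ideal.span {(p : B)} → x ∈ Ideal.span {(p : P)}) : Function.Bijective φ := by
  have hp2B : (p : B) * p = 0 := by
    have := congrArg φ hp2
    rwa [map_mul, map_natCast, map_zero] at this
  refine ⟨(injective_iff_map_eq_zero φ).2 fun x hx => ?_, fun b => ?_⟩
  · obtain ⟨y, rfl⟩ := Ideal.mem_span_singleton'.1 (hi x (hx ▸ Ideal.zero_mem _))
    rw [map_mul, map_natCast, mul_comm] at hx
    obtain ⟨y', rfl⟩ := Ideal.mem_span_singleton'.1 (hi y (hB _ hx))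
    rw [mul_assoc, hp2, mul_zero]
  · obtain ⟨x, z, rfl⟩ := hs b
    obtain ⟨x', z', rfl⟩ := hs z
    refine ⟨x + p * x', ?_⟩
    rw [map_add, map_mul, map_natCast, mul_add, ← mul_assoc, hp2B, zero_mul, add_zero]

end Red

/-- A flat lift of a smooth algebra is smooth. -/
theorem smooth_of_red (p : ℕ) {R B R₀ B₀ : Type u} [CommRing R] [CommRing B] [CommRing R₀] [CommRing B₀]
    [Algebra R B] (hp2 : (p : R) * p = 0) (hB : ∀ b : B, (p : B) * b = 0 → b ∈ Ideal.span {(p : B)})
    (σ : R →+* R₀) (hσ : Function.Surjective σ) (hσk : RingHom.ker σ = Ideal.span {(p : R)})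
    (π : B →+* B₀) (hπ : Function.Surjective π) (hπk : RingHom.ker π = Ideal.span {(p : B)})
    (ψ₀ : R₀ →+* B₀) (hcomm : π.comp (algebraMap R B) = ψ₀.comp σ) (hsm : ψ₀.Smooth) :
    Algebra.Smooth R B := by
  let I := RingHom.ker σ
  let e₀ : R ⧸ I ≃+* R₀ := RingHom.quotientKerEquivOfSurjective hσ
  letI : Algebra R₀ B₀ := ψ₀.toAlgebra
  haveI : Algebra.Smooth R₀ B₀ := hsm
  letI algIA : Algebra (R ⧸ I) R₀ := e₀.toRingHom.toAlgebra
  letI algI : Algebra (R ⧸ I) B₀ := (ψ₀.comp e₀.toRingHom).toAlgebra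
  haveI : IsScalarTower (R ⧸ I) R₀ B₀ := IsScalarTower.of_algebraMap_eq fun _ => rfl
  haveI : Algebra.Smooth (R ⧸ I) R₀ := Algebra.Smooth.of_equiv (AlgEquiv.ofRingEquiv (f := e₀) fun _ => rfl)
  haveI : Algebra.Smooth (R ⧸ I) B₀ := Algebra.Smooth.comp (R ⧸ I) R₀ B₀
  obtain ⟨P, _, _, hP, ⟨e⟩⟩ := TransLib.exists_smooth_lift (A₀ := B₀) I
  haveI := hP
  letI : Algebra R B₀ := (π.comp (algebraMap R B)).toAlgebra
  let πa : B →ₐ[R] B₀ := { π with commutes' := fun _ => rfl }
  have hnil : IsNilpotent (RingHom.ker πa.toRingHom) := by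
    refine ⟨2, ?_⟩
    rw [show RingHom.ker πa.toRingHom = RingHom.ker π from rfl, hπk, Ideal.span_singleton_pow, pow_two,
      ← Nat.cast_mul, ← map_natCast (algebraMap R B), Nat.cast_mul, hp2, map_zero, Ideal.span_singleton_eq_bot.2 rfl]
    rfl
  let ρ : P →ₐ[R] B₀ :=
    { e.toAlgHom.toRingHom.comp (Ideal.Quotient.mk (I.map (algebraMap R P))) with
      commutes' := fun a => by
        show e (Ideal.Quotient.mk _ (algebraMap R P a)) = π (algebraMap R B a)
        rw [← RingHom.comp_apply π, hcomm]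
        exact e.commutes (Ideal.Quotient.mk I a) }
  obtain ⟨φ, hφ⟩ : ∃ φ : P →ₐ[R] B, ∀ x, π (φ x) = ρ x := by
    refine ⟨Algebra.FormallySmooth.liftOfSurjective ρ πa hπ hnil, fun x => ?_⟩
    exact DFunLike.congr_fun (Algebra.FormallySmooth.comp_liftOfSurjective ρ πa hπ hnil) x
  have hρk : ∀ x, ρ x = 0 → x ∈ Ideal.span {(p : P)} := fun x hx => by
    have h : Ideal.Quotient.mk (I.map (algebraMap R P)) x = 0 := e.injective (hx.trans (map_zero e).symm)
    rw [Ideal.Quotient.eq_zero_iff_mem, show I = Ideal.span {(p : R)} from hσk, Ideal.map_span, Set.image_singleton,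
      map_natCast] at h
    exact h
  have hb : Function.Bijective φ.toRingHom := by
    refine bijective_of_red p ?_ hB _ (fun b => ?_) (fun x hx => hρk x ?_)
    · rw [← map_natCast (algebraMap R P), ← map_mul, hp2, map_zero]
    · obtain ⟨x, hx⟩ := (e.surjective.comp Ideal.Quotient.mk_surjective) (π b)
      have h : b - φ x ∈ RingHom.ker π := by rw [RingHom.mem_ker, map_sub, hφ, sub_eq_zero]; exact hx.symm
      rw [hπk] at h
      obtain ⟨z, hz⟩ := Ideal.mem_span_singleton'.1 h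
      exact ⟨x, z, by rw [mul_comm, hz]; show b = φ x + (b - φ x); ring⟩
    · rw [← hφ x, ← RingHom.mem_ker, hπk]
      exact hx
  exact Algebra.Smooth.of_equiv (AlgEquiv.ofBijective φ hb)

section Adjust

variable {A₁ A : Type u} [CommRing A₁] [CommRing A] (p : ℕ) (π : A₁ →+* A) (hπ : Function.Surjective π)
  (hπk : RingHom.ker π = Ideal.span {(p : A₁)})

include hπ hπk in
/-- An ideal contained in a principal one with the same reduction is equal to it. -/
theorem eq_of_le_of_red (hp2 : (p : A₁) * p = 0) (I : Ideal A₁) (t : A₁) (hI : I ≤ Ideal.span {t})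
    (ht : π t ∈ nonZeroDivisors A) (hmap : I.map π = (Ideal.span {t}).map π) : I = Ideal.span {t} := by
  have step : ∀ x ∈ Ideal.span {t}, ∃ i ∈ I, ∃ y ∈ Ideal.span {t}, x = i + (p : A₁) * y := by
    intro x hx
    obtain ⟨i, hi, hix⟩ := (Ideal.mem_map_iff_of_surjective π hπ).1 (hmap.ge (Ideal.mem_map_of_mem π hx))
    have h : x - i ∈ RingHom.ker π := by rw [RingHom.mem_ker, map_sub, hix, sub_self]
    obtain ⟨y, hy⟩ := Ideal.mem_span_singleton'.1 (sub_mem hx (hI hi))
    have hy0 : π y = 0 := mem_nonZeroDivisors_iff_right.1 ht _ (by rw [← map_mul, hy]; exact h)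
    rw [← RingHom.mem_ker, hπk] at hy0
    obtain ⟨z, rfl⟩ := Ideal.mem_span_singleton'.1 hy0
    exact ⟨i, hi, z * t, Ideal.mem_span_singleton'.2 ⟨z, rfl⟩, by linear_combination -hy⟩
  refine le_antisymm hI fun x hx => ?_
  obtain ⟨i, hi, y, hy, rfl⟩ := step x hx
  obtain ⟨i', hi', y', -, rfl⟩ := step y hy
  rw [mul_add, ← mul_assoc, hp2, zero_mul, add_zero]
  exact add_mem hi (Ideal.mul_mem_left _ _ hi')

end Adjust

/-- Adjusting a lift of a section so that it respects given ideals. -/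
theorem exists_adjusted_section {A₁ A C : Type u} [CommRing A₁] [CommRing A] [CommRing C] [Algebra A₁ A]
    [Algebra A₁ C] [Algebra C A] [IsScalarTower A₁ C A] [Algebra.Smooth A₁ C] (p : ℕ) (hp2 : (p : A₁) * p = 0)
    (hπ : Function.Surjective (algebraMap A₁ A)) (hπk : RingHom.ker (algebraMap A₁ A) = Ideal.span {(p : A₁)})
    {ι : Type v} [Finite ι] (E : ι → Ideal C) (T : ι → Ideal A₁)
    (hE : ∀ i, (E i).map (algebraMap C A) ≤ (T i).map (algebraMap A₁ A))
    (hloc : ∀ q : Ideal A, q.IsMaximal → ∀ i, (T i).map (algebraMap A₁ A) ≤ q →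
      ∃ e ∈ E i, (∃ c : C, algebraMap C A c ∉ q ∧ ∀ x ∈ E i, c * x ∈ Ideal.span {e}) ∧
        ∃ D : Derivation A₁ C (A ⧸ q), D e ≠ 0 ∧
          ∀ j, j ≠ i → (T j).map (algebraMap A₁ A) ≤ q → ∀ x ∈ E j, D x = 0) :
    ∃ σ : C →ₐ[A₁] A₁, (∀ x, algebraMap A₁ A (σ x) = algebraMap C A x) ∧ ∀ i, (E i).map σ ≤ T i := by
  classical
  haveI := Fintype.ofFinite ι
  let π := algebraMap A₁ A
  have hnil : IsNilpotent (RingHom.ker (Algebra.ofId A₁ A).toRingHom) := by
    refine ⟨2, ?_⟩
    rw [show RingHom.ker (Algebra.ofId A₁ A).toRingHom = RingHom.ker π from rfl, hπk, Ideal.span_singleton_pow,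
      pow_two, hp2, Ideal.span_singleton_eq_bot.2 rfl]
    rfl
  let σ : C →ₐ[A₁] A₁ :=
    Algebra.FormallySmooth.liftOfSurjective (IsScalarTower.toAlgHom A₁ C A) (Algebra.ofId A₁ A) hπ hnil
  have hσ : ∀ x, π (σ x) = algebraMap C A x := fun x =>
    DFunLike.congr_fun (Algebra.FormallySmooth.comp_liftOfSurjective (IsScalarTower.toAlgHom A₁ C A)
      (Algebra.ofId A₁ A) hπ hnil) x
  let P : A → A₁ := fun a => (p : A₁) * Function.surjInv hπ a
  have hP : ∀ a₁, P (π a₁) = (p : A₁) * a₁ := by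
    intro a₁
    have h : Function.surjInv hπ (π a₁) - a₁ ∈ RingHom.ker π := by
      rw [RingHom.mem_ker, map_sub, Function.surjInv_eq hπ, sub_self]
    rw [hπk] at h
    obtain ⟨z, hz⟩ := Ideal.mem_span_singleton'.1 h
    show (p : A₁) * _ = _
    linear_combination (-(p : A₁)) * hz + z * hp2
  have hPadd : ∀ a b, P (a + b) = P a + P b := fun a b => by
    obtain ⟨a, rfl⟩ := hπ a
    obtain ⟨b, rfl⟩ := hπ b
    rw [show algebraMap A₁ A a + algebraMap A₁ A b = π (a + b) from (map_add π a b).symm, hP, hP, hP, mul_add]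
  have hPmul : ∀ r a, P (π r * a) = r * P a := fun r a => by
    obtain ⟨a, rfl⟩ := hπ a
    rw [show π r * algebraMap A₁ A a = π (r * a) from (map_mul π r a).symm, hP, hP, mul_left_comm]
  have hPP : ∀ a b, P a * P b = 0 := fun a b => by
    show (p : A₁) * _ * ((p : A₁) * _) = 0
    linear_combination (Function.surjInv hπ a * Function.surjInv hπ b) * hp2
  have hP0 : P 0 = 0 := by rw [← map_zero π, hP, mul_zero]
  have hsm : ∀ (δ : Derivation A₁ C A) (x y : C), δ (x * y) = π (σ x) * δ y + π (σ y) * δ x := fun δ x y => by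
    rw [δ.leibniz, Algebra.smul_def, Algebra.smul_def, hσ, hσ]
  let 𝔞 : Ideal A₁ :=
    { carrier := {a | ∃ δ : Derivation A₁ C A, ∀ i, ∀ x ∈ E i, a * σ x + P (δ x) ∈ T i}
      zero_mem' := ⟨0, fun i x _ => by simp [hP0]⟩
      add_mem' := by
        rintro a b ⟨δ, hδ⟩ ⟨δ', hδ'⟩
        refine ⟨δ + δ', fun i x hx => ?_⟩
        rw [Derivation.add_apply, hPadd, show (a + b) * σ x + (P (δ x) + P (δ' x)) =
          a * σ x + P (δ x) + (b * σ x + P (δ' x)) by ring]
        exact add_mem (hδ i x hx) (hδ' i x hx)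
      smul_mem' := by
        rintro r a ⟨δ, hδ⟩
        refine ⟨r • δ, fun i x hx => ?_⟩
        rw [smul_eq_mul, Derivation.smul_apply, Algebra.smul_def, hPmul, mul_assoc, ← mul_add]
        exact Ideal.mul_mem_left _ _ (hδ i x hx) }
  by_cases hone : 1 ∈ 𝔞
  · obtain ⟨δ, hδ⟩ := hone
    let σ' : C →+* A₁ :=
      { toFun := fun x => σ x + P (δ x)
        map_one' := by simp [hP0]
        map_mul' := fun x y => by
          rw [hsm, hPadd, hPmul, hPmul, map_mul]
          linear_combination -hPP (δ x) (δ y)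
        map_zero' := by simp [hP0]
        map_add' := fun x y => by rw [map_add, map_add, hPadd]; ring }
    let τ : C →ₐ[A₁] A₁ :=
      { σ' with
        commutes' := fun a => by
          show σ (algebraMap A₁ C a) + P (δ (algebraMap A₁ C a)) = _
          rw [Derivation.map_algebraMap, hP0, add_zero, AlgHom.commutes] }
    refine ⟨τ, fun x => ?_, fun i => Ideal.map_le_iff_le_comap.2 fun x hx => ?_⟩
    · show π (σ x + P (δ x)) = _
      rw [map_add, hσ]
      simp only [P, π, map_mul, map_natCast]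
      rw [show (p : A) = 0 by
        rw [← map_natCast π, ← RingHom.mem_ker, hπk]; exact Ideal.mem_span_singleton_self _, zero_mul, add_zero]
    · show σ x + P (δ x) ∈ T i
      simpa using hδ i x hx
  exfalso
  obtain ⟨M, hM, hle⟩ := Ideal.exists_le_maximal 𝔞 (fun h => hone (h ▸ Submodule.mem_top))
  have hpM : RingHom.ker π ≤ M := by
    rw [hπk, Ideal.span_singleton_le_iff_mem]
    exact hM.isPrime.mem_of_pow_mem 2 (by rw [pow_two, hp2]; exact Ideal.zero_mem _)
  haveI hq : (M.map π).IsMaximal :=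
    (Ideal.map_eq_top_or_isMaximal_of_surjective π hπ hM).resolve_left fun h => hM.ne_top (by
      have := congrArg (Ideal.comap π) h
      rw [Ideal.comap_map_of_surjective π hπ, show Ideal.comap π ⊥ = RingHom.ker π from rfl,
        sup_eq_left.2 hpM, Ideal.comap_top] at this
      exact this)
  have hMq : ∀ a, π a ∈ M.map π → a ∈ M := fun a ha => by
    have h : a ∈ (M.map π).comap π := ha
    rwa [Ideal.comap_map_of_surjective π hπ, show Ideal.comap π ⊥ = RingHom.ker π from rfl,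
      sup_eq_left.2 hpM] at h
  set q := M.map π with hqdef
  let S := {i : ι // (T i).map π ≤ q}
  have hout : ∀ i : ι, ¬ (T i).map π ≤ q → ∃ τ ∈ T i, τ ∉ M := fun i hi => by
    by_contra h
    push Not at h
    exact hi (Ideal.map_mono h)
  choose τo hτo hτoM using hout
  let a₀ : A₁ := ∏ i : {i : ι // ¬ (T i).map π ≤ q}, τo i.1 i.2
  have ha₀ : ∀ i, ¬ (T i).map π ≤ q → a₀ ∈ T i := fun i hi =>
    Ideal.mem_of_dvd _ (Finset.dvd_prod_of_mem (fun i : {i : ι // ¬ (T i).map π ≤ q} => τo i.1 i.2)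
      (Finset.mem_univ ⟨i, hi⟩)) (hτo i hi)
  choose e heE hc D hDe hD0 using fun i : S => hloc q hq i.1 i.2
  choose c hcq hcx using hc
  haveI : Module.Projective C (KaehlerDifferential A₁ C) := inferInstance
  have hlift : ∀ i : S, ∃ δ : Derivation A₁ C A, ∀ x, Ideal.Quotient.mk q (δ x) = D i x := by
    intro i
    let g : A →ₗ[C] A ⧸ q := (Ideal.Quotient.mkₐ C q).toLinearMap
    obtain ⟨l, hl⟩ := Module.projective_lifting_property g (D i).liftKaehlerDifferential Ideal.Quotient.mk_surjective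
    refine ⟨KaehlerDifferential.linearMapEquivDerivation A₁ C l, fun x => ?_⟩
    have := LinearMap.congr_fun hl (KaehlerDifferential.D A₁ C x)
    rw [Derivation.liftKaehlerDifferential_comp_D] at this
    exact this
  choose δ hδ using hlift
  have hb : ∀ i : S, ∃ b, σ (e i) - (p : A₁) * b ∈ T i.1 := fun i => by
    obtain ⟨τ, hτ, hτe⟩ := (Ideal.mem_map_iff_of_surjective π hπ).1 (hE i.1 (Ideal.mem_map_of_mem _ (heE i)))
    have h : σ (e i) - τ ∈ RingHom.ker π := by rw [RingHom.mem_ker, map_sub, hσ, hτe, sub_self]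
    rw [hπk] at h
    obtain ⟨b, hb⟩ := Ideal.mem_span_singleton'.1 h
    exact ⟨b, by rw [mul_comm, hb, sub_sub_cancel]; exact hτ⟩
  choose b hb using hb
  let N : Matrix S S A := fun n j => δ j (e n)
  have hdet : N.det ∉ q := by
    intro h
    have h1 : ((Ideal.Quotient.mk q).mapMatrix N).det = 0 := by
      rw [← RingHom.map_det, Ideal.Quotient.eq_zero_iff_mem]; exact h
    have h2 : (Ideal.Quotient.mk q).mapMatrix N = Matrix.diagonal fun j => D j (e j) := by
      ext n j
      rw [RingHom.mapMatrix_apply, Matrix.map_apply, hδ]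
      by_cases hnj : n = j
      · subst hnj; rw [Matrix.diagonal_apply_eq]
      · rw [Matrix.diagonal_apply_ne _ hnj]
        exact hD0 j n.1 (fun h => hnj (Subtype.ext h)) n.2 _ (heE n)
    rw [h2, Matrix.det_diagonal] at h1
    haveI := hq.isPrime
    obtain ⟨j, -, hj⟩ := Finset.prod_eq_zero_iff.1 h1
    exact hDe j hj
  obtain ⟨dt, hdt⟩ := hπ N.det
  let w : S → A := N.adjugate.mulVec fun n => -π (b n)
  let Δ : Derivation A₁ C A := ∑ j : S, Function.surjInv hπ (w j) • δ j
  have hΔ : ∀ n : S, Δ (e n) = N.det * -π (b n) := fun n => by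
    have h1 : Δ (e n) = (N.mulVec w) n := by
      rw [show Δ (e n) = ∑ j : S, (Function.surjInv hπ (w j) • δ j) (e n) by
        rw [← Derivation.coeFnAddMonoidHom_apply, map_sum, Finset.sum_apply]; rfl]
      refine Finset.sum_congr rfl fun j _ => ?_
      rw [Derivation.smul_apply, Algebra.smul_def, Function.surjInv_eq hπ, mul_comm]
    rw [h1, Matrix.mulVec_mulVec, Matrix.mul_adjugate, Matrix.smul_mulVec, Matrix.one_mulVec]
    rfl
  let a : A₁ := σ (∏ i : S, c i) * a₀ * dt
  have haM : a ∉ M := by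
    intro h
    have h' : π a ∈ q := Ideal.mem_map_of_mem π h
    rw [map_mul, map_mul, hσ] at h'
    rcases hq.isPrime.mem_or_mem h' with h' | h'
    · rcases hq.isPrime.mem_or_mem h' with h' | h'
      · rw [map_prod] at h'
        obtain ⟨i, -, hi⟩ := hq.isPrime.prod_mem_iff.1 h'
        exact hcq i hi
      · obtain ⟨i, -, hi⟩ := hM.isPrime.prod_mem_iff.1 (hMq _ h')
        exact hτoM i.1 i.2 hi
    · exact hdet (hdt ▸ h')
  refine haM (hle ⟨(σ (∏ i : S, c i) * a₀) • Δ, fun i x hx => ?_⟩)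
  rw [Derivation.smul_apply, Algebra.smul_def, hPmul,
    show a * σ x + σ (∏ i : S, c i) * a₀ * P (Δ x) = σ (∏ i : S, c i) * a₀ * (dt * σ x + P (Δ x)) by ring]
  by_cases hi : (T i).map π ≤ q
  · let n : S := ⟨i, hi⟩
    obtain ⟨c', hc'⟩ : c n ∣ ∏ i : S, c i := Finset.dvd_prod_of_mem c (Finset.mem_univ n)
    suffices σ (c n) * (dt * σ x + P (Δ x)) ∈ T i by
      rw [hc', map_mul]
      convert Ideal.mul_mem_left (T i) (σ c' * a₀) this using 1
      ring
    have hQe : dt * σ (e n) + P (Δ (e n)) ∈ T i := by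
      rw [hΔ, ← hdt, ← map_neg, ← map_mul, hP]
      convert Ideal.mul_mem_left (T i) dt (hb n) using 1
      ring
    obtain ⟨y, hy⟩ := Ideal.mem_span_singleton'.1 (hcx n x hx)
    have hsmallP : ∀ z ∈ E i, ∀ r : A, σ z * P r ∈ T i := fun z hz r => by
      obtain ⟨τ, hτ, hτz⟩ := (Ideal.mem_map_iff_of_surjective π hπ).1 (hE i (Ideal.mem_map_of_mem _ hz))
      rw [← hPmul, hσ, ← hτz, hPmul]
      exact Ideal.mul_mem_right _ _ hτ
    have hQ : ∀ z z', dt * σ (z * z') + P (Δ (z * z')) = σ z * (dt * σ z' + P (Δ z')) + σ z' * P (Δ z) := fun z z' => by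
      rw [hsm, hPadd, hPmul, hPmul, map_mul]; ring
    have h1 := congrArg (fun z => dt * σ z + P (Δ z)) hy
    simp only [hQ] at h1
    have h2 : σ (c n) * (dt * σ x + P (Δ x)) =
        σ y * (dt * σ (e n) + P (Δ (e n))) + σ (e n) * P (Δ y) - σ x * P (Δ (c n)) := by linear_combination -h1
    rw [h2]
    exact sub_mem (add_mem (Ideal.mul_mem_left _ _ hQe) (hsmallP _ (heE n) _)) (hsmallP x hx _)
  · exact Ideal.mul_mem_right _ _ (Ideal.mul_mem_left _ _ (ha₀ i hi))

end NCDLiftLib
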