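import Groth.Agent.NCDLiftLib.Alg
import Groth.Agent.FComplLib.Thicken
import Groth.Agent.BlowBCLib.Base
import Groth.Agent.RGFlatLib.Local
import Groth.Agent.LogModLocLib.Exact
import Groth.Agent.LogModLocLib.Basis
import Groth.Agent.IntMultLib.Cartier

/-!
# Flat lifts of normal crossing divisors
-/

set_option autoImplicit false
set_option maxHeartbeats 1000000
set_option backward.isDefEq.respectTransparency false
universe u
open CategoryTheory CategoryTheory.Limits AlgebraicGeometry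

namespace NCDLiftLib

variable {X S : Scheme.{u}}

/-- A member of a normal crossing divisor is effective Cartier. -/
theorem isEffCartier_of_ncd (f : X ⟶ S) [Smooth f] {r : ℕ} {D : Fin r → X.IdealSheafData} (hD : LogNCD.IsNCD D f)
    (m : Fin r) : BlowUp.IsEffCartierIdeal (D m) := by
  intro x
  obtain ⟨V, hV, U, h, n, w, e, hxU, -, -, het, hthr, hmiss⟩ :=
    LogModLocLib.exists_chart hD (x := x) (O := ⊤) trivial
  refine ⟨U, hxU, ?_⟩
  by_cases hm : x ∈ (D m).support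
  · refine ⟨w (e ⟨m, hm⟩), mem_nonZeroDivisors_iff_right.2 fun b hb => ?_, hthr ⟨m, hm⟩⟩
    refine LogModLocLib.coord_regular _ het (e ⟨m, hm⟩) b ?_
    rw [LogModLocLib.coordHom, MvPolynomial.eval₂Hom_X', mul_comm]
    exact hb
  · exact ⟨1, one_mem _, by rw [hmiss m hm, Ideal.span_singleton_one]⟩

/-- A member of a normal crossing divisor is flat over the base. -/
theorem flat_of_ncd (f : X ⟶ S) [Smooth f] {r : ℕ} {D : Fin r → X.IdealSheafData} (hD : LogNCD.IsNCD D f)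
    (m : Fin r) : Flat ((D m).subschemeι ≫ f) := by
  refine Groth.Agent.BlowBCLib.flat_subscheme_of_charts f (D m) fun x => ?_
  obtain ⟨V, hV, U, h, n, w, e, hxU, -, -, het, hthr, hmiss⟩ :=
    LogModLocLib.exists_chart hD (x := x) (O := ⊤) trivial
  refine ⟨Γ(X, U.1), inferInstance, U.2.fromSpec, U.2.isOpenImmersion_fromSpec, (D m).ideal U,
    U.2.range_fromSpec.ge hxU, BlowUpLib.comap_fromSpec (D m) U, ?_⟩
  have hflat : ((Ideal.Quotient.mk ((D m).ideal U)).comp (f.appLE V U.1 h).hom).Flat := by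
    by_cases hm : x ∈ (D m).support
    · rw [hthr ⟨m, hm⟩]
      have hf := flat_coord_quot _ het (e ⟨m, hm⟩)
      have h1 : (LogModLocLib.coordHom f V U.1 h w) (MvPolynomial.X (e ⟨m, hm⟩)) = w (e ⟨m, hm⟩) :=
        MvPolynomial.eval₂Hom_X' _ _ _
      have h2 : (LogModLocLib.coordHom f V U.1 h w).comp MvPolynomial.C = (f.appLE V U.1 h).hom :=
        RingHom.ext fun a => MvPolynomial.eval₂Hom_C _ _ _
      rw [h1, h2] at hf
      exact hf
    · have hsub : Subsingleton (Γ(X, U.1) ⧸ (D m).ideal U) := Ideal.Quotient.subsingleton_iff.2 (hmiss m hm)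
      algebraize [(Ideal.Quotient.mk ((D m).ideal U)).comp (f.appLE V U.1 h).hom]
      exact RingHom.flat_algebraMap_iff.2 inferInstance
  rw [← IsAffineOpen.SpecMap_appLE_fromSpec f hV U.2 h, ← Category.assoc, ← Spec.map_comp]
  haveI : IsOpenImmersion hV.fromSpec := hV.isOpenImmersion_fromSpec
  haveI := Groth.Agent.BlowBCLib.flat_specMap hflat
  exact inferInstanceAs (Flat (Spec.map (CommRingCat.ofHom ((Ideal.Quotient.mk ((D m).ideal U)).comp (f.appLE V U.1 h).hom)) ≫ hV.fromSpec))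

variable (p : ℕ) [Fact p.Prime]

/-- The reduction map of the base. -/
abbrev redHom : ULift.{u} (ZMod (p ^ 2)) →+* ULift.{u} (ZMod p) :=
  ((ULift.ringEquiv.{0, u} (R := ZMod p)).symm.toRingHom.comp (ZMod.castHom (dvd_pow_self p two_ne_zero) (ZMod p))).comp
    (ULift.ringEquiv.{0, u} (R := ZMod (p ^ 2))).toRingHom

theorem surjective_redHom : Function.Surjective (redHom.{u} p) := fun y => by
  obtain ⟨m, hm⟩ := ZMod.natCast_zmod_surjective y.down
  exact ⟨(m : ULift.{u} (ZMod (p ^ 2))), by rw [map_natCast]; exact ULift.down_injective (by simpa using hm)⟩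

theorem ker_redHom : RingHom.ker (redHom.{u} p) = Ideal.span {(p : ULift.{u} (ZMod (p ^ 2)))} := by
  refine le_antisymm (fun a ha => ?_) ((Ideal.span_singleton_le_iff_mem _).2 ?_)
  · obtain ⟨m, hm⟩ := ZMod.natCast_zmod_surjective a.down
    obtain rfl : (m : ULift.{u} (ZMod (p ^ 2))) = a := ULift.down_injective (by simpa using hm)
    rw [RingHom.mem_ker, map_natCast] at ha
    have : (m : ZMod p) = 0 := by simpa using congrArg ULift.down ha
    obtain ⟨c, rfl⟩ := (ZMod.natCast_eq_zero_iff _ _).1 this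
    exact Ideal.mem_span_singleton'.2 ⟨c, by push_cast; ring⟩
  · rw [RingHom.mem_ker, map_natCast]
    exact ULift.down_injective (by simp)

/-- A cartesian reduction modulo `p` on an affine open. -/
theorem chart_mod {Y Z : Scheme.{u}} (t : Y ⟶ Spec (CommRingCat.of (ULift.{u} (ZMod (p ^ 2)))))
    (i : Z ⟶ Y) (t₀ : Z ⟶ Spec (CommRingCat.of (ULift.{u} (ZMod p))))
    (h : IsPullback i t₀ t (Spec.map (CommRingCat.ofHom (redHom p)))) (V : Y.affineOpens) :
    IsClosedImmersion i ∧ Function.Surjective i ∧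
      Function.Surjective (i.app V.1).hom ∧ RingHom.ker (i.app V.1).hom = Ideal.span {(p : Γ(Y, V.1))} := by
  haveI : IsClosedImmersion (Spec.map (CommRingCat.ofHom (redHom.{u} p))) :=
    IsClosedImmersion.spec_of_surjective _ (surjective_redHom p)
  haveI : Surjective (Spec.map (CommRingCat.ofHom (redHom.{u} p))) := ⟨fun y => by
    have hy : y ∈ Set.range (PrimeSpectrum.comap (redHom.{u} p)) := by
      rw [range_comap_of_surjective _ _ (surjective_redHom p), ker_redHom, PrimeSpectrum.mem_zeroLocus,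
        SetLike.coe_subset_coe, Ideal.span_singleton_le_iff_mem]
      refine Ideal.IsPrime.mem_of_pow_mem inferInstance 2 ?_
      rw [← Nat.cast_pow]
      convert Ideal.zero_mem _
      exact ULift.down_injective (by simp [ZMod.natCast_self])
    exact hy⟩
  obtain ⟨hs, hk, -⟩ := FComplLib.chart h ⟨⊤, isAffineOpen_top _⟩ V le_top
  refine ⟨FComplLib.isClosedImmersion_of_isPullback h, (FComplLib.surjective_of_isPullback h).surj, hs, ?_⟩
  rw [hk]
  have hK : (Spec.map (CommRingCat.ofHom (redHom.{u} p))).ker.ideal ⟨⊤, isAffineOpen_top _⟩ =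
      Ideal.span {((p : ℕ) : Γ(Spec (CommRingCat.of (ULift.{u} (ZMod (p ^ 2)))), ⊤))} := by
    let φ := Spec.map (CommRingCat.ofHom (redHom.{u} p))
    have hn := Scheme.ΓSpecIso_naturality (CommRingCat.ofHom (redHom.{u} p))
    rw [Scheme.Hom.ker_apply]
    refine le_antisymm (fun a ha => ?_) ((Ideal.span_singleton_le_iff_mem _).2 ?_)
    · have hka : (Scheme.ΓSpecIso _).hom.hom a ∈ RingHom.ker (redHom.{u} p) := by
        rw [RingHom.mem_ker]
        have := congr($hn a)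
        rw [CommRingCat.comp_apply, CommRingCat.comp_apply] at this
        refine this.symm.trans ?_
        rw [show φ.appTop.hom a = 0 from ha, map_zero]
      rw [ker_redHom] at hka
      obtain ⟨c, hc⟩ := Ideal.mem_span_singleton'.1 hka
      refine Ideal.mem_span_singleton'.2 ⟨(Scheme.ΓSpecIso _).inv.hom c, ?_⟩
      have := congrArg (Scheme.ΓSpecIso (CommRingCat.of (ULift.{u} (ZMod (p ^ 2))))).inv.hom hc
      rwa [map_mul, map_natCast, ← CommRingCat.comp_apply, Iso.hom_inv_id] at this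
    · rw [RingHom.mem_ker, map_natCast]
      apply (ConcreteCategory.bijective_of_isIso (Scheme.ΓSpecIso (CommRingCat.of (ULift.{u} (ZMod p)))).hom).1
      rw [map_natCast, map_zero]
      exact ULift.down_injective (by simp)
  rw [hK, Ideal.map_span, Set.image_singleton, map_natCast]

theorem isClosedImmersion_mod {Y Z : Scheme.{u}} {t : Y ⟶ Spec (CommRingCat.of (ULift.{u} (ZMod (p ^ 2))))}
    {i : Z ⟶ Y} {t₀ : Z ⟶ Spec (CommRingCat.of (ULift.{u} (ZMod p)))}
    (h : IsPullback i t₀ t (Spec.map (CommRingCat.ofHom (redHom p)))) : IsClosedImmersion i :=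
  haveI : IsClosedImmersion (Spec.map (CommRingCat.ofHom (redHom.{u} p))) :=
    IsClosedImmersion.spec_of_surjective _ (surjective_redHom p)
  FComplLib.isClosedImmersion_of_isPullback h

omit [Fact p.Prime] in
/-- Sections of a scheme flat over `Z/p²`. -/
theorem flat_sections {Y : Scheme.{u}} (t : Y ⟶ Spec (CommRingCat.of (ULift.{u} (ZMod (p ^ 2))))) [Flat t]
    (V : Y.affineOpens) : ∃ a : Algebra (ZMod (p ^ 2)) Γ(Y, V.1), @Module.Flat (ZMod (p ^ 2)) Γ(Y, V.1) _ _ a.toModule := by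
  have h1 : (t.appLE ⊤ V.1 le_top).hom.Flat := HasRingHomProperty.appLE @Flat t inferInstance ⟨⊤, isAffineOpen_top _⟩ V le_top
  let e : ZMod (p ^ 2) →+* Γ(Spec (CommRingCat.of (ULift.{u} (ZMod (p ^ 2)))), ⊤) :=
    (Scheme.ΓSpecIso (CommRingCat.of (ULift.{u} (ZMod (p ^ 2))))).inv.hom.comp ULift.ringEquiv.symm.toRingHom
  have he : Function.Bijective e :=
    (ConcreteCategory.bijective_of_isIso (Scheme.ΓSpecIso (CommRingCat.of (ULift.{u} (ZMod (p ^ 2))))).inv).comp
      ULift.ringEquiv.symm.bijective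
  refine ⟨((t.appLE ⊤ V.1 le_top).hom.comp e).toAlgebra, ?_⟩
  exact (RingHom.Flat.of_bijective he).comp h1

variable {Sl S X Xl : Scheme.{u}}

theorem flat_iff_isInvertible_of_cartier (gS : Sl ⟶ Spec (CommRingCat.of (ULift.{u} (ZMod (p ^ 2))))) [Flat gS]
    (iS : S ⟶ Sl) (fS : S ⟶ Spec (CommRingCat.of (ULift.{u} (ZMod p))))
    (hS : IsPullback iS fS gS (Spec.map (CommRingCat.ofHom (redHom p))))
    (f : X ⟶ S) (D : X.IdealSheafData) (hc : BlowUp.IsEffCartierIdeal D) [Flat (D.subschemeι ≫ f)]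
    (g : Xl ⟶ Sl) [Flat g] (j : X ⟶ Xl) (hX : IsPullback j f g iS) (I : Xl.IdealSheafData)
    (hI : I.comap j = D) :
    Flat (I.subschemeι ≫ g) ↔ PicF.IsInvertible (ClSub.idealMod I) := by
  haveI := isClosedImmersion_mod p hS
  haveI := isClosedImmersion_mod p (hX.paste_vert hS)
  -- the criterion on small affine opens
  have key : ∀ (W : Sl.affineOpens) (T : Xl.affineOpens) (e : T.1 ≤ g ⁻¹ᵁ W.1),
      (∃ t ∈ nonZeroDivisors Γ(X, j ⁻¹ᵁ T.1), (D.ideal ⟨j ⁻¹ᵁ T.1, T.2.preimage j⟩) = Ideal.span {t}) →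
      (((Ideal.Quotient.mk (I.ideal T)).comp (g.appLE W.1 T.1 e).hom).Flat ↔
        ∃ t ∈ nonZeroDivisors Γ(Xl, T.1), I.ideal T = Ideal.span {t}) := by
    intro W T e hgen
    obtain ⟨hiS, -, hσ, hσk⟩ := chart_mod p gS iS fS hS W
    obtain ⟨hj, -, hπ, hπk⟩ := chart_mod p (g ≫ gS) j (f ≫ fS) (hX.paste_vert hS) T
    haveI := hiS
    obtain ⟨-, -, hsq⟩ := FComplLib.chart hX W T e
    obtain ⟨aR, hflR⟩ := flat_sections p gS W
    obtain ⟨aT, hflT⟩ := flat_sections p (g ≫ gS) T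
    letI := aR
    haveI := hflR
    have hT := @torsion_of_flat p _ Γ(Xl, T.1) _ aT hflT
    obtain ⟨t₀, ht₀, hJ⟩ := hgen
    have hmap : (I.ideal T).map (j.app T.1).hom = D.ideal ⟨j ⁻¹ᵁ T.1, T.2.preimage j⟩ := by
      rw [Scheme.Hom.app_eq_appLE, ← hI]
      exact RGFlatLib.ideal_comap_appLE j I T.2 (T.2.preimage j) le_rfl
    have e' : j ⁻¹ᵁ T.1 ≤ f ⁻¹ᵁ (iS ⁻¹ᵁ W.1) := fun x hx => by
      have := e hx
      change g (j x) ∈ W.1 at this
      change iS (f x) ∈ W.1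
      rwa [← Scheme.Hom.comp_apply, ← hX.w, Scheme.Hom.comp_apply]
    refine flat_iff_principal p hT (g.appLE W.1 T.1 e).hom (j.app T.1).hom hπ hπk (iS.app W.1).hom hσ hσk (f.appLE _ _ e').hom
      ?_ (I.ideal T) t₀ ht₀ (hmap.trans hJ) ?_
    · rw [← CommRingCat.hom_comp, hsq, CommRingCat.hom_comp]
    · rw [hmap]
      exact Groth.Agent.BlowBCLib.flat_quot_appLE f D ⟨iS ⁻¹ᵁ W.1, W.2.preimage iS⟩
        ⟨j ⁻¹ᵁ T.1, T.2.preimage j⟩ _
  -- small affine opens exist
  have small : ∀ (y : Xl) (O : Xl.Opens), y ∈ O → ∃ (W : Sl.affineOpens) (T : Xl.affineOpens)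
      (e : T.1 ≤ g ⁻¹ᵁ W.1), y ∈ T.1 ∧ T.1 ≤ O ∧
      ∃ t ∈ nonZeroDivisors Γ(X, j ⁻¹ᵁ T.1), (D.ideal ⟨j ⁻¹ᵁ T.1, T.2.preimage j⟩) = Ideal.span {t} := by
    intro y O hy
    obtain ⟨W, hW, -⟩ := BlowUpLib.exists_affine (g y) (W := (⊤ : Sl.Opens)) trivial
    obtain ⟨T₀, hT₀, -⟩ := BlowUpLib.exists_affine y (W := (⊤ : Xl.Opens)) trivial
    obtain ⟨hj, hjs, -, -⟩ := chart_mod p (g ≫ gS) j (f ≫ fS) (hX.paste_vert hS) T₀
    haveI := hj
    obtain ⟨x, rfl⟩ := hjs y
    obtain ⟨U, hxU, t, ht, hU⟩ := hc x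
    let O' : Xl.Opens := ⟨(j '' (U.1 : Set X)ᶜ)ᶜ, (j.isClosedEmbedding.isClosedMap _ U.1.2.isClosed_compl).isOpen_compl⟩
    have hxO' : j x ∈ O' := by
      rintro ⟨x', hx', hxx⟩
      exact hx' (j.isClosedEmbedding.injective hxx ▸ hxU)
    obtain ⟨T, hxT, hT⟩ := BlowUpLib.exists_affine (j x) (W := O ⊓ O' ⊓ g ⁻¹ᵁ W.1) ⟨⟨hy, hxO'⟩, hW⟩
    have hle : j ⁻¹ᵁ T.1 ≤ U.1 := fun x' hx' => by
      by_contra h
      exact (hT hx').1.2 ⟨x', h, rfl⟩
    refine ⟨W, T, hT.trans inf_le_right, hxT, hT.trans (inf_le_left.trans inf_le_left),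
      (X.presheaf.map (homOfLE hle).op).hom t, ?_, ?_⟩
    · refine BlowUpLib.nzd_of_flat _ ?_ ht
      have h := HasRingHomProperty.appLE @Flat (𝟙 X) inferInstance U ⟨j ⁻¹ᵁ T.1, T.2.preimage j⟩ hle
      simpa [Scheme.Hom.appLE] using h
    · rw [← D.map_ideal (U := ⟨j ⁻¹ᵁ T.1, T.2.preimage j⟩) (V := U) hle, hU, Ideal.map_span, Set.image_singleton]
      rfl
  constructor
  · intro hfl
    refine IntMultLib.isInvertible_idealMod _ fun y => ?_
    obtain ⟨W, T, e, hyT, -, hgen⟩ := small y ⊤ trivial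
    obtain ⟨t, ht, hIt⟩ := (key W T e hgen).1 (Groth.Agent.BlowBCLib.flat_quot_appLE g I W T e)
    exact ⟨T, hyT, t, ht, hIt⟩
  · intro hinv
    refine Groth.Agent.BlowBCLib.flat_subscheme_of_charts g I fun y => ?_
    obtain ⟨T₁, hyT₁, t, ht, hT₁⟩ := IntMultLib.isEffCartier_of_isInvertible I hinv y
    obtain ⟨W, T, e, hyT, hle, hgen⟩ := small y T₁.1 hyT₁
    refine ⟨Γ(Xl, T.1), inferInstance, T.2.fromSpec, T.2.isOpenImmersion_fromSpec, I.ideal T,
      T.2.range_fromSpec.ge hyT, BlowUpLib.comap_fromSpec I T, ?_⟩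
    have hfl := (key W T e hgen).2 ⟨(Xl.presheaf.map (homOfLE hle).op).hom t, by
        refine BlowUpLib.nzd_of_flat _ ?_ ht
        have h := HasRingHomProperty.appLE @Flat (𝟙 Xl) inferInstance T₁ T hle
        simpa [Scheme.Hom.appLE] using h,
      by rw [← I.map_ideal (U := T) (V := T₁) hle, hT₁, Ideal.map_span, Set.image_singleton]; rfl⟩
    rw [← IsAffineOpen.SpecMap_appLE_fromSpec g W.2 T.2 e, ← Category.assoc, ← Spec.map_comp]
    haveI : IsOpenImmersion W.2.fromSpec := W.2.isOpenImmersion_fromSpec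
    haveI := Groth.Agent.BlowBCLib.flat_specMap hfl
    exact inferInstanceAs (Flat (Spec.map (CommRingCat.ofHom ((Ideal.Quotient.mk (I.ideal T)).comp (g.appLE W.1 T.1 e).hom)) ≫ W.2.fromSpec))

theorem flat_iff_isInvertible (gS : Sl ⟶ Spec (CommRingCat.of (ULift.{u} (ZMod (p ^ 2))))) [Flat gS]
    (iS : S ⟶ Sl) (fS : S ⟶ Spec (CommRingCat.of (ULift.{u} (ZMod p))))
    (hS : IsPullback iS fS gS (Spec.map (CommRingCat.ofHom (redHom p))))
    (f : X ⟶ S) [Smooth f] {r : ℕ} (D : Fin r → X.IdealSheafData) (hD : LogNCD.IsNCD D f)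
    (g : Xl ⟶ Sl) [Flat g] (j : X ⟶ Xl) (hX : IsPullback j f g iS) (I : Xl.IdealSheafData) (m : Fin r)
    (hI : I.comap j = D m) :
    Flat (I.subschemeι ≫ g) ↔ PicF.IsInvertible (ClSub.idealMod I) :=
  haveI := flat_of_ncd f hD m
  flat_iff_isInvertible_of_cartier p gS iS fS hS f (D m) (isEffCartier_of_ncd f hD m) g j hX I hI

end NCDLiftLib
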