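import Groth.Agent.NCDLiftLib.Lift
import Groth.Agent.RGFlatLib.Compose
import Groth.Agent.GrpAmpleLib.Nil
import Groth.Agent.S14931

/-!
# Isomorphisms and Frobenius lifts compatible with normal crossing divisors
-/

set_option autoImplicit false
set_option maxHeartbeats 1000000
set_option backward.isDefEq.respectTransparency false
universe u
open CategoryTheory CategoryTheory.Limits AlgebraicGeometry TopologicalSpace
open scoped DualNumber

namespace NCDLiftLib

variable (p : ℕ) [Fact p.Prime] {Sl S X Xl : Scheme.{u}}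

/-- An ideal contained in an effective Cartier one with the same reduction is equal to it. -/
theorem eq_of_le_of_comap {Z₀ Z : Scheme.{u}} (t : Z ⟶ Spec (CommRingCat.of (ULift.{u} (ZMod (p ^ 2))))) [Flat t]
    (i : Z₀ ⟶ Z) (t₀ : Z₀ ⟶ Spec (CommRingCat.of (ULift.{u} (ZMod p))))
    (h : IsPullback i t₀ t (Spec.map (CommRingCat.ofHom (redHom p)))) (I T : Z.IdealSheafData)
    (hT : BlowUp.IsEffCartierIdeal T) (hT₀ : BlowUp.IsEffCartierIdeal (T.comap i)) (hle : I ≤ T)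
    (hI : I.comap i = T.comap i) : I = T := by
  haveI := isClosedImmersion_mod p h
  haveI := surjective_mod p h
  have small : ∀ z : Z, ∃ V : Z.affineOpens, z ∈ V.1 ∧ I.ideal V = T.ideal V := by
    intro z
    obtain ⟨x, rfl⟩ := i.surjective z
    obtain ⟨U₀, hxU₀, t₀', ht₀, hU₀⟩ := hT₀ x
    obtain ⟨U, hzU, s, -, hU⟩ := hT (i x)
    let O' : Z.Opens := ⟨(i '' (U₀.1 : Set Z₀)ᶜ)ᶜ, (i.isClosedEmbedding.isClosedMap _ U₀.1.2.isClosed_compl).isOpen_compl⟩
    have hxO' : i x ∈ O' := by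
      rintro ⟨x', hx', hxx⟩
      exact hx' (i.isClosedEmbedding.injective hxx ▸ hxU₀)
    obtain ⟨V, hxV, hV⟩ := BlowUpLib.exists_affine (i x) (W := U.1 ⊓ O') ⟨hzU, hxO'⟩
    have hle₀ : i ⁻¹ᵁ V.1 ≤ U₀.1 := fun x' hx' => by
      by_contra h
      exact (hV hx').2 ⟨x', h, rfl⟩
    let s' := (Z.presheaf.map (homOfLE (hV.trans inf_le_left)).op).hom s
    have hTV : T.ideal V = Ideal.span {s'} := by
      rw [← T.map_ideal (U := V) (V := U) (hV.trans inf_le_left), hU, Ideal.map_span, Set.image_singleton]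
      rfl
    obtain ⟨-, -, hπ, hπk⟩ := chart_mod p t i t₀ h V
    have hmapI := RGFlatLib.ideal_comap_appLE i I V.2 (V.2.preimage i) le_rfl
    have hmapT := RGFlatLib.ideal_comap_appLE i T V.2 (V.2.preimage i) le_rfl
    rw [← Scheme.Hom.app_eq_appLE] at hmapI hmapT
    rw [hI, ← hmapT, hTV] at hmapI
    rw [hTV, Ideal.map_span, Set.image_singleton] at hmapT
    let t₁ := (Z₀.presheaf.map (homOfLE hle₀).op).hom t₀'
    have ht₁ : t₁ ∈ nonZeroDivisors Γ(Z₀, i ⁻¹ᵁ V.1) := by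
      refine BlowUpLib.nzd_of_flat _ ?_ ht₀
      have h := HasRingHomProperty.appLE @Flat (𝟙 Z₀) inferInstance U₀ ⟨i ⁻¹ᵁ V.1, V.2.preimage i⟩ hle₀
      simpa [Scheme.Hom.appLE] using h
    have hU₀' : (T.comap i).ideal ⟨i ⁻¹ᵁ V.1, V.2.preimage i⟩ = Ideal.span {t₁} := by
      rw [← (T.comap i).map_ideal (U := ⟨i ⁻¹ᵁ V.1, V.2.preimage i⟩) (V := U₀) hle₀, hU₀, Ideal.map_span,
        Set.image_singleton]
      rfl
    obtain ⟨d, hd⟩ := Ideal.mem_span_singleton'.1 ((hmapT.trans hU₀').ge (Ideal.mem_span_singleton_self t₁))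
    refine ⟨V, hxV, ?_⟩
    rw [hTV]
    refine eq_of_le_of_red p _ hπ hπk (p_sq_sections p t V) (I.ideal V) s' (hTV ▸ hle V)
      (mem_nonZeroDivisors_iff_right.2 fun b hb => mem_nonZeroDivisors_iff_right.1 ht₁ b ?_) hmapI
    rw [← hd, mul_left_comm, hb, mul_zero]
  choose V hzV hV using small
  exact Scheme.IdealSheafData.ext_of_iSup_eq_top V
    (top_le_iff.1 fun z _ => Opens.mem_iSup.2 ⟨z, hzV z⟩) hV

/-- A morphism of flat lifts inducing the identity modulo `p` is an isomorphism. -/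
theorem isIso_of_red {Z₀ Z₁ Z₂ : Scheme.{u}} [IsAffine Z₁] [IsAffine Z₂]
    (t₁ : Z₁ ⟶ Spec (CommRingCat.of (ULift.{u} (ZMod (p ^ 2))))) [Flat t₁]
    (t₂ : Z₂ ⟶ Spec (CommRingCat.of (ULift.{u} (ZMod (p ^ 2))))) [Flat t₂]
    (i₁ : Z₀ ⟶ Z₁) (i₂ : Z₀ ⟶ Z₂) {s₁ s₂ : Z₀ ⟶ Spec (CommRingCat.of (ULift.{u} (ZMod p)))}
    (h₁ : IsPullback i₁ s₁ t₁ (Spec.map (CommRingCat.ofHom (redHom p))))
    (h₂ : IsPullback i₂ s₂ t₂ (Spec.map (CommRingCat.ofHom (redHom p))))
    (h : Z₁ ⟶ Z₂) (hh : i₁ ≫ h = i₂) : IsIso h := by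
  obtain ⟨-, -, hs₁, hk₁⟩ := chart_mod p t₁ i₁ s₁ h₁ ⟨⊤, isAffineOpen_top _⟩
  obtain ⟨-, -, hs₂, hk₂⟩ := chart_mod p t₂ i₂ s₂ h₂ ⟨⊤, isAffineOpen_top _⟩
  obtain ⟨a, hfl⟩ := flat_sections p t₁ ⟨⊤, isAffineOpen_top _⟩
  have hred : ∀ x, i₁.appTop.hom (h.appTop.hom x) = i₂.appTop.hom x := fun x => by
    rw [← hh, Scheme.Hom.comp_appTop]
    rfl
  have hk₁' : RingHom.ker i₁.appTop.hom = Ideal.span {(p : Γ(Z₁, ⊤))} := hk₁
  have hk₂' : RingHom.ker i₂.appTop.hom = Ideal.span {(p : Γ(Z₂, ⊤))} := hk₂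
  have hb : Function.Bijective h.appTop.hom := by
    refine bijective_of_red p (p_sq_sections p t₂ ⟨⊤, isAffineOpen_top _⟩) (@torsion_of_flat p _ _ _ a hfl) _ ?_ ?_
    · intro b
      obtain ⟨x, hx⟩ := hs₂ (i₁.appTop.hom b)
      have h0 : b - h.appTop.hom x ∈ RingHom.ker i₁.appTop.hom := by
        rw [RingHom.mem_ker, map_sub, hred, sub_eq_zero]
        exact hx.symm
      rw [hk₁'] at h0
      obtain ⟨z, hz⟩ := Ideal.mem_span_singleton'.1 h0
      exact ⟨x, z, by rw [mul_comm, hz, add_sub_cancel]⟩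
    · intro x hx
      rw [← hk₁', RingHom.mem_ker, hred] at hx
      rw [← hk₂']
      exact hx
  haveI : IsIso h.appTop := (ConcreteCategory.isIso_iff_bijective h.appTop).2 hb
  have he : h = Z₁.isoSpec.hom ≫ Spec.map h.appTop ≫ Z₂.isoSpec.inv := by
    rw [Scheme.isoSpec_hom_naturality_assoc, Iso.hom_inv_id, Category.comp_id]
  rw [he]
  infer_instance

omit [Fact p.Prime] in
theorem comap_pow {Y Z : Scheme.{u}} (a : Z ⟶ Y) (I : Y.IdealSheafData) (n : ℕ) :
    (I ^ n).comap a = I.comap a ^ n := by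
  induction n with
  | zero => rw [pow_zero, pow_zero, Scheme.IdealSheafData.one_eq_top, Scheme.IdealSheafData.comap_top,
      Scheme.IdealSheafData.one_eq_top]
  | succ n ih => rw [pow_succ, pow_succ, BlowUpLib.comap_mul, ih]

/-- The Frobenius pulls a Cartier ideal back to its power. -/
theorem comap_frob [FrobSch.IsCharP X p] (D : X.IdealSheafData) (hD : BlowUp.IsEffCartierIdeal D) :
    D.comap (FrobSch.frob X p) = D ^ p := by
  choose V hV t _ hVt using hD
  refine Scheme.IdealSheafData.ext_of_iSup_eq_top V (top_le_iff.1 fun z _ => Opens.mem_iSup.2 ⟨z, hV z⟩) fun x => ?_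
  have h := RGFlatLib.ideal_comap_appLE (FrobSch.frob X p) D (V x).2 (V x).2 (T := (V x).1) le_rfl
  rw [hVt x, Ideal.map_span, Set.image_singleton] at h
  rw [Scheme.IdealSheafData.ideal_pow, Pi.pow_apply, hVt x, Ideal.span_singleton_pow, ← h]
  congr 2
  simp only [Scheme.Hom.appLE, homOfLE_refl, CommRingCat.comp_apply]
  erw [X.presheaf.map_id]
  exact FrobSch.frob_app X p _ _

/-- Two liftings of an affine scheme with a normal crossing divisor are isomorphic. -/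
theorem exists_iso (gS : Sl ⟶ Spec (CommRingCat.of (ULift.{u} (ZMod (p ^ 2))))) [Flat gS]
    (iS : S ⟶ Sl) (fS : S ⟶ Spec (CommRingCat.of (ULift.{u} (ZMod p))))
    (hS : IsPullback iS fS gS (Spec.map (CommRingCat.ofHom (redHom p)))) [IsNoetherian S]
    [IsAffine X] (f : X ⟶ S) [Smooth f] {X₁ X₂ : Scheme.{u}} (g₁ : X₁ ⟶ Sl) (g₂ : X₂ ⟶ Sl) [Flat g₁] [Flat g₂]
    (j₁ : X ⟶ X₁) (j₂ : X ⟶ X₂) (h₁ : IsPullback j₁ f g₁ iS) (h₂ : IsPullback j₂ f g₂ iS)
    {r : ℕ} (D : Fin r → X.IdealSheafData) (hD : LogNCD.IsNCD D f)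
    (D₁ : Fin r → X₁.IdealSheafData) (D₂ : Fin r → X₂.IdealSheafData)
    (hD₁ : ∀ m, (D₁ m).comap j₁ = D m) (hD₂ : ∀ m, (D₂ m).comap j₂ = D m)
    (hD₁f : ∀ m, Flat ((D₁ m).subschemeι ≫ g₁)) (hD₂f : ∀ m, Flat ((D₂ m).subschemeι ≫ g₂)) :
    ∃ e : X₁ ≅ X₂, j₁ ≫ e.hom = j₂ ∧ e.hom ≫ g₂ = g₁ ∧ (∏ m, D₂ m).comap e.hom = ∏ m, D₁ m := by
  haveI := isAffine_of_lift p hS h₁
  haveI := isAffine_of_lift p hS h₂
  have hc₁ : ∀ m, BlowUp.IsEffCartierIdeal (D₁ m) := fun m => IntMultLib.isEffCartier_of_isInvertible _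
    ((flat_iff_isInvertible p gS iS fS hS f D hD g₁ j₁ h₁ (D₁ m) m (hD₁ m)).1 (hD₁f m))
  have hc₂ : ∀ m, BlowUp.IsEffCartierIdeal (D₂ m) := fun m => IntMultLib.isEffCartier_of_isInvertible _
    ((flat_iff_isInvertible p gS iS fS hS f D hD g₂ j₂ h₂ (D₂ m) m (hD₂ m)).1 (hD₂f m))
  obtain ⟨h, hj, hg, hle⟩ := exists_lift_le p gS iS fS hS f g₁ j₁ h₁ f g₂ j₂ h₂ (𝟙 X) (Category.id_comp f) D₂ hc₂ D₁
    (fun m => by rw [hD₁, hD₂, Scheme.IdealSheafData.comap_id]) (fun k _ ξ i hi => by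
      rw [hD₂] at hi
      obtain ⟨v, h0, h1, h2, h3⟩ := exists_tangent f hD k ξ i (by simpa using hi)
      refine ⟨v, by rw [Category.comp_id]; exact h0, h1, by rw [hD₂]; exact h2, fun j hne hj => ?_⟩
      rw [hD₂] at hj ⊢
      exact h3 j hne (by simpa using hj))
  rw [Category.id_comp] at hj
  haveI := isIso_of_red p (g₁ ≫ gS) (g₂ ≫ gS) j₁ j₂ (h₁.paste_vert hS) (h₂.paste_vert hS) h hj
  refine ⟨asIso h, hj, hg, ?_⟩
  rw [asIso_hom, HilbPts.SC.comap_prod]
  refine Finset.prod_congr rfl fun m _ => eq_of_le_of_comap p (g₁ ≫ gS) j₁ _ (h₁.paste_vert hS) _ _ (hc₁ m) ?_ (hle m) ?_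
  · rw [hD₁]; exact isEffCartier_of_ncd f hD m
  · rw [← Scheme.IdealSheafData.comap_comp, hj, hD₁, hD₂]

/-- The relative Frobenius lifts compatibly with a normal crossing divisor. -/
theorem exists_relFrob_lift (gS : Sl ⟶ Spec (CommRingCat.of (ULift.{u} (ZMod (p ^ 2))))) [Flat gS]
    (iS : S ⟶ Sl) (fS : S ⟶ Spec (CommRingCat.of (ULift.{u} (ZMod p))))
    (hS : IsPullback iS fS gS (Spec.map (CommRingCat.ofHom (redHom p)))) [IsNoetherian S] [FrobSch.IsCharP S p]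
    [IsAffine X] (f : X ⟶ S) [Smooth f] (g : Xl ⟶ Sl) [Flat g] (j : X ⟶ Xl) (h : IsPullback j f g iS)
    {Xl' : Scheme.{u}} (g' : Xl' ⟶ Sl) [Flat g'] (j' : FrobSch.frobTwist f p ⟶ Xl')
    (h' : IsPullback j' (pullback.snd f (FrobSch.frob S p)) g' iS)
    {r : ℕ} (D : Fin r → X.IdealSheafData) (hD : LogNCD.IsNCD D f)
    (Dl : Fin r → Xl.IdealSheafData) (hDl : ∀ m, (Dl m).comap j = D m) (hDlf : ∀ m, Flat ((Dl m).subschemeι ≫ g))
    (Dl' : Fin r → Xl'.IdealSheafData)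
    (hDl' : ∀ m, (Dl' m).comap j' = (D m).comap (pullback.fst f (FrobSch.frob S p)))
    (hDl'f : ∀ m, Flat ((Dl' m).subschemeι ≫ g')) :
    ∃ Fl : Xl ⟶ Xl', IsFinite Fl ∧ j ≫ Fl = FrobSch.relFrob f p ≫ j' ∧ Fl ≫ g' = g ∧
      (∏ m, Dl' m).comap Fl = (∏ m, Dl m) ^ p := by
  haveI : FrobSch.IsCharP X p := FrobSch.IsCharP.of_hom f p
  haveI : IsAffineHom (pullback.fst f (FrobSch.frob S p)) :=
    MorphismProperty.pullback_fst f (FrobSch.frob S p) (GrpAmpleLib.isAffineHom_frob S p)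
  haveI : IsAffine (FrobSch.frobTwist f p) := isAffine_of_isAffineHom (pullback.fst f (FrobSch.frob S p))
  haveI : Smooth (pullback.snd f (FrobSch.frob S p)) := MorphismProperty.pullback_snd f (FrobSch.frob S p) ‹Smooth f›
  haveI := isAffine_of_lift p hS h
  haveI := isAffine_of_lift p hS h'
  have hcD : ∀ m, BlowUp.IsEffCartierIdeal (D m) := fun m => isEffCartier_of_ncd f hD m
  have hflD : ∀ m, Flat ((D m).subschemeι ≫ f) := fun m => flat_of_ncd f hD m
  let sq := IsPullback.of_hasPullback f (FrobSch.frob S p)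
  have hcD' : ∀ m, BlowUp.IsEffCartierIdeal ((D m).comap (pullback.fst f (FrobSch.frob S p))) := fun m =>
    haveI := hflD m
    Groth.Agent.BlowBCLib.isEffCartier_baseChange f (D m) (hcD m) sq
  have hflD' : ∀ m, Flat (((D m).comap (pullback.fst f (FrobSch.frob S p))).subschemeι ≫
      pullback.snd f (FrobSch.frob S p)) := fun m => by
    have hb := (IsPullback.of_hasPullback (pullback.fst f (FrobSch.frob S p)) (D m).subschemeι).flip.paste_vert sq
    haveI := MorphismProperty.of_isPullback (P := @Flat) hb (hflD m)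
    rw [← Scheme.IdealSheafData.comapIso_hom_fst, Category.assoc]
    infer_instance
  have hc : ∀ m, BlowUp.IsEffCartierIdeal (Dl m) := fun m => IntMultLib.isEffCartier_of_isInvertible _
    ((flat_iff_isInvertible p gS iS fS hS f D hD g j h (Dl m) m (hDl m)).1 (hDlf m))
  have hc' : ∀ m, BlowUp.IsEffCartierIdeal (Dl' m) := fun m => IntMultLib.isEffCartier_of_isInvertible _ <|
    haveI := hflD' m
    (flat_iff_isInvertible_of_cartier p gS iS fS hS (pullback.snd f (FrobSch.frob S p)) _ (hcD' m) g' j' h' (Dl' m)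
      (hDl' m)).1 (hDl'f m)
  have hcomap : ∀ m, ((Dl' m).comap j').comap (FrobSch.relFrob f p) = D m ^ p := fun m => by
    rw [hDl', ← Scheme.IdealSheafData.comap_comp, FrobSch.relFrob_fst, comap_frob p _ (hcD m)]
  have hTj : ∀ m, ((Dl m) ^ p).comap j = D m ^ p := fun m => by rw [comap_pow, hDl]
  have hpt : ∀ x : X, (pullback.fst f (FrobSch.frob S p)) (FrobSch.relFrob f p x) = x := fun x => by
    rw [← Scheme.Hom.comp_apply, FrobSch.relFrob_fst, FrobSch.frob_apply]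
  have hmem : ∀ m (x : X), FrobSch.relFrob f p x ∈ ((Dl' m).comap j').support → x ∈ (D m).support := fun m x hx => by
    rw [hDl', Scheme.IdealSheafData.support_comap] at hx
    have hx' : (pullback.fst f (FrobSch.frob S p)) (FrobSch.relFrob f p x) ∈ (D m).support := hx
    rwa [hpt] at hx'
  obtain ⟨Fl, hj, hg, hle⟩ := exists_lift_le p gS iS fS hS f g j h (pullback.snd f (FrobSch.frob S p)) g' j' h'
    (FrobSch.relFrob f p) (FrobSch.relFrob_snd f p) Dl' hc' (fun m => Dl m ^ p)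
    (fun m => (hTj m).trans (hcomap m).symm) (fun k _ ξ i hi => by
      let ξ' := ξ ≫ FrobSch.relFrob f p ≫ pullback.fst f (FrobSch.frob S p)
      have hξ' : ξ' (IsLocalRing.closedPoint k) = ξ (IsLocalRing.closedPoint k) := by
        simp only [ξ', Scheme.Hom.comp_apply, hpt]
      obtain ⟨v, h0, h1, h2, h3⟩ := exists_tangent f hD k ξ' i (by rw [hξ']; exact hmem i _ hi)
      let inl := Spec.map (CommRingCat.ofHom (dualInl k))
      have hcond : v ≫ f = (inl ≫ ξ ≫ f) ≫ FrobSch.frob S p := by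
        rw [h1]
        simp only [ξ', inl, Category.assoc, pullback.condition, FrobSch.relFrob_snd_assoc]
      have hfi : Spec.map (CommRingCat.ofHom (dualFst k)) ≫ inl = 𝟙 _ := by
        rw [← Spec.map_comp, ← CommRingCat.ofHom_comp, ← Spec.map_id]
        congr 1
      refine ⟨pullback.lift v (inl ≫ ξ ≫ f) hcond, ?_, ?_, ?_, fun l hne hl => ?_⟩
      · apply pullback.hom_ext
        · rw [Category.assoc, pullback.lift_fst, h0]
          simp only [ξ', Category.assoc]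
        · rw [Category.assoc, pullback.lift_snd, reassoc_of% hfi]
          simp only [Category.assoc, FrobSch.relFrob_snd]
      · rw [pullback.lift_snd]
      · rw [hDl', ← Scheme.IdealSheafData.comap_comp, pullback.lift_fst, h2]
      · rw [hDl', ← Scheme.IdealSheafData.comap_comp, pullback.lift_fst]
        exact h3 l hne (by rw [hξ']; exact hmem l _ hl))
  refine ⟨Fl, ?_, hj, hg, ?_⟩
  · haveI := isClosedImmersion_mod p (h'.paste_vert hS)
    haveI := surjective_mod p (h'.paste_vert hS)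
    haveI : IsLocallyNoetherian (FrobSch.frobTwist f p) :=
      LocallyOfFiniteType.isLocallyNoetherian (pullback.snd f (FrobSch.frob S p))
    obtain ⟨-, -, hπs, hπk⟩ := chart_mod p (g' ≫ gS) j' _ (h'.paste_vert hS) ⟨⊤, isAffineOpen_top _⟩
    haveI : IsNoetherianRing Γ(FrobSch.frobTwist f p, j' ⁻¹ᵁ ⊤) :=
      IsLocallyNoetherian.component_noetherian ⟨_, (isAffineOpen_top Xl').preimage j'⟩
    haveI : IsNoetherianRing Γ(Xl', ⊤) := by
      refine FComplLib.isNoetherianRing_of_thickening (j'.app ⊤).hom hπs ⟨2, ?_⟩ ?_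
      · rw [hπk, Ideal.span_singleton_pow, pow_two, p_sq_sections p (g' ≫ gS) ⟨⊤, isAffineOpen_top _⟩,
          Ideal.span_singleton_eq_bot.2 rfl]
        rfl
      · rw [hπk]; exact Submodule.fg_span_singleton _
    haveI : IsLocallyNoetherian Xl' := isLocallyNoetherian_of_isOpenImmersion Xl'.isoSpec.hom
    have hsq : IsPullback j (FrobSch.relFrob f p) Fl j' :=
      IsPullback.of_bot (v₂₁ := pullback.snd f (FrobSch.frob S p)) (v₂₂ := g') (h₃₁ := iS)
        (by rw [FrobSch.relFrob_snd, hg]; exact h) hj h'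
    haveI : IsFinite (FrobSch.relFrob f p) := Groth.Agent.S14931.result p f
    exact FComplLib.isFinite_of_thickening hsq
  · rw [HilbPts.SC.comap_prod, ← Finset.prod_pow]
    refine Finset.prod_congr rfl fun m _ => eq_of_le_of_comap p (g ≫ gS) j _ (h.paste_vert hS) _ _
      (RGFlatLib.isEffCartier_pow (hc m) p) ?_ (hle m) ?_
    · rw [hTj]; exact RGFlatLib.isEffCartier_pow (hcD m) p
    · rw [← Scheme.IdealSheafData.comap_comp, hj, Scheme.IdealSheafData.comap_comp, hcomap, hTj]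

end NCDLiftLib
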