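import Mathlib
import Groth.Agent.NCDLiftLib.Main
import Groth.Agent.NCDLiftLib.LiftAlg
import Groth.Agent.ChevLib.Main

/-!
# Tangent vectors transversal to the branches, and thickenings
-/

set_option autoImplicit false
set_option maxHeartbeats 1000000
set_option backward.isDefEq.respectTransparency false
universe u
open CategoryTheory CategoryTheory.Limits AlgebraicGeometry
open scoped DualNumber

namespace NCDLiftLib

variable {X S : Scheme.{u}}

/-- The closed point embedding of the dual numbers. -/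
abbrev dualFst (k : Type u) [Field k] : DualNumber k →+* k := (TrivSqZeroExt.fstHom k k k).toRingHom

/-- The structure map of the dual numbers. -/
abbrev dualInl (k : Type u) [Field k] : k →+* DualNumber k := TrivSqZeroExt.inlHom k k

theorem isNilpotent_ker_dualFst (k : Type u) [Field k] : IsNilpotent (RingHom.ker (dualFst k)) := by
  refine ⟨2, ?_⟩
  refine le_bot_iff.1 ?_
  rw [show (2 : ℕ) = 1 + 1 from rfl, Submodule.pow_succ, Submodule.pow_one]
  refine Ideal.mul_le.2 ?_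
  intro a ha b hb
  rw [RingHom.mem_ker] at ha hb
  refine TrivSqZeroExt.ext ?_ ?_
  · rw [TrivSqZeroExt.fst_mul]; exact mul_eq_zero_of_left ha _
  · rw [DualNumber.snd_mul, show TrivSqZeroExt.fst a = 0 from ha, show TrivSqZeroExt.fst b = 0 from hb]
    simp

theorem surjective_dualFst (k : Type u) [Field k] : Function.Surjective (dualFst k) :=
  fun a => ⟨(TrivSqZeroExt.inl a : DualNumber k), TrivSqZeroExt.fst_inl k a⟩

theorem surjective_specMap_dualFst (k : Type u) [Field k] :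
    Function.Surjective (Spec.map (CommRingCat.ofHom (dualFst k))) := fun y => by
  have hy : y ∈ Set.range (PrimeSpectrum.comap (dualFst k)) := by
    rw [range_comap_of_surjective _ (dualFst k) (surjective_dualFst k), PrimeSpectrum.mem_zeroLocus]
    intro a ha
    obtain ⟨n, hn⟩ := isNilpotent_ker_dualFst k
    refine y.isPrime.mem_of_pow_mem n ?_
    have h : a ^ n ∈ RingHom.ker (dualFst k) ^ n := Ideal.pow_mem_pow ha n
    rw [hn] at h
    rw [(Ideal.mem_bot).1 h]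
    exact Ideal.zero_mem _
  exact hy

/-- At a point of a branch there is a tangent vector transversal to it and tangent to the others. -/
theorem exists_tangent (f : X ⟶ S) [Smooth f] {r : ℕ} {D : Fin r → X.IdealSheafData} (hD : LogNCD.IsNCD D f)
    (k : Type u) [Field k] (ξ : Spec (CommRingCat.of k) ⟶ X) (i : Fin r)
    (hi : ξ (IsLocalRing.closedPoint k) ∈ (D i).support) :
    ∃ v : Spec (CommRingCat.of (DualNumber k)) ⟶ X, Spec.map (CommRingCat.ofHom (dualFst k)) ≫ v = ξ ∧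
      v ≫ f = Spec.map (CommRingCat.ofHom (dualInl k)) ≫ ξ ≫ f ∧
      (D i).comap v = BlowUpLib.specIdeal (Ideal.span {(DualNumber.eps : DualNumber k)}) ∧
      ∀ j, j ≠ i → ξ (IsLocalRing.closedPoint k) ∈ (D j).support → (D j).comap v = BlowUpLib.specIdeal ⊥ := by
  classical
  obtain ⟨V, hV, U, h, n, w, e, hxU, -, hinj, het, hthr, -⟩ :=
    LogModLocLib.exists_chart hD (x := ξ (IsLocalRing.closedPoint k)) (O := ⊤) trivial
  haveI : IsOpenImmersion U.2.fromSpec := U.2.isOpenImmersion_fromSpec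
  have hr : Set.range ξ ⊆ Set.range U.2.fromSpec := by
    rintro _ ⟨y, rfl⟩
    rw [U.2.range_fromSpec, Subsingleton.elim y (IsLocalRing.closedPoint k)]
    exact hxU
  let β : Γ(X, U.1) →+* k := (Spec.preimage (IsOpenImmersion.lift U.2.fromSpec ξ hr)).hom
  have hβ : Spec.map (CommRingCat.ofHom β) ≫ U.2.fromSpec = ξ := by
    simp only [β, CommRingCat.ofHom_hom, Spec.map_preimage, IsOpenImmersion.lift_fac]
  have hzero : ∀ j (hj : ξ (IsLocalRing.closedPoint k) ∈ (D j).support), β (w (e ⟨j, hj⟩)) = 0 := by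
    intro j hj
    let y : PrimeSpectrum Γ(X, U.1) := (Spec.map (CommRingCat.ofHom β)) (IsLocalRing.closedPoint k)
    have hy : U.2.fromSpec y = ξ (IsLocalRing.closedPoint k) := by
      conv_rhs => rw [← hβ]
      rfl
    obtain ⟨q, hq, hq'⟩ : ξ (IsLocalRing.closedPoint k) ∈
        U.2.fromSpec '' PrimeSpectrum.zeroLocus (R := Γ(X, U.1)) ((D j).ideal U) := by
      rw [U.2.fromSpec_image_zeroLocus]
      exact ⟨((Scheme.IdealSheafData.coe_support_inter (D j) U).le ⟨hj, hxU⟩).1, hxU⟩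
    obtain rfl : q = y := U.2.fromSpec.isOpenEmbedding.injective (hq'.trans hy.symm)
    have hw : w (e ⟨j, hj⟩) ∈ y.asIdeal := hq ((hthr ⟨j, hj⟩).ge (Ideal.mem_span_singleton_self _))
    have : β (w (e ⟨j, hj⟩)) ∈ IsLocalRing.maximalIdeal k := hw
    rwa [IsLocalRing.maximalIdeal_eq_bot, Ideal.mem_bot] at this
  let φc := LogModLocLib.coordHom f V U.1 h w
  let ψ₀ : MvPolynomial (ULift.{u} (Fin n)) Γ(S, V) →+* DualNumber k :=
    MvPolynomial.eval₂Hom ((dualInl k).comp (β.comp (f.appLE V U.1 h).hom))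
      (fun l => TrivSqZeroExt.inl (β (w l)) + if l = e ⟨i, hi⟩ then DualNumber.eps else 0)
  letI : Algebra (MvPolynomial (ULift.{u} (Fin n)) Γ(S, V)) Γ(X, U.1) := φc.toAlgebra
  letI : Algebra (MvPolynomial (ULift.{u} (Fin n)) Γ(S, V)) (DualNumber k) := ψ₀.toAlgebra
  letI : Algebra (MvPolynomial (ULift.{u} (Fin n)) Γ(S, V)) k := (β.comp φc).toAlgebra
  haveI : Algebra.Etale (MvPolynomial (ULift.{u} (Fin n)) Γ(S, V)) Γ(X, U.1) := het
  have hfst : (dualFst k).comp ψ₀ = β.comp φc := by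
    refine MvPolynomial.ringHom_ext (fun a => ?_) (fun l => ?_)
    · simp [ψ₀, φc, LogModLocLib.coordHom]
    · by_cases hl : l = e ⟨i, hi⟩ <;> simp [ψ₀, φc, LogModLocLib.coordHom, hl]
  let fa : DualNumber k →ₐ[MvPolynomial (ULift.{u} (Fin n)) Γ(S, V)] k :=
    { dualFst k with commutes' := fun a => RingHom.congr_fun hfst a }
  let βa : Γ(X, U.1) →ₐ[MvPolynomial (ULift.{u} (Fin n)) Γ(S, V)] k := { β with commutes' := fun _ => rfl }
  have hfas : Function.Surjective fa := surjective_dualFst k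
  let ψ := Algebra.FormallySmooth.liftOfSurjective βa fa hfas (isNilpotent_ker_dualFst k)
  have hψ : ∀ x, dualFst k (ψ x) = β x := fun x =>
    DFunLike.congr_fun (Algebra.FormallySmooth.comp_liftOfSurjective βa fa hfas (isNilpotent_ker_dualFst k)) x
  have hψ0 : ∀ a, ψ (φc a) = ψ₀ a := fun a => ψ.commutes a
  have hideal : ∀ j (hj : ξ (IsLocalRing.closedPoint k) ∈ (D j).support),
      (D j).comap (Spec.map (CommRingCat.ofHom ψ.toRingHom) ≫ U.2.fromSpec) =
        BlowUpLib.specIdeal (Ideal.span {if e ⟨j, hj⟩ = e ⟨i, hi⟩ then (DualNumber.eps : DualNumber k) else 0}) := by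
    intro j hj
    rw [Scheme.IdealSheafData.comap_comp, BlowUpLib.comap_fromSpec (D j) U, BlowUpLib.comap_specIdeal, hthr ⟨j, hj⟩,
      Ideal.map_span, Set.image_singleton]
    congr 3
    have h1 : φc (MvPolynomial.X (e ⟨j, hj⟩)) = w (e ⟨j, hj⟩) := MvPolynomial.eval₂Hom_X' _ _ _
    show ψ (w (e ⟨j, hj⟩)) = _
    rw [← h1, hψ0]
    simp [ψ₀, hzero j hj]
  refine ⟨Spec.map (CommRingCat.ofHom ψ.toRingHom) ≫ U.2.fromSpec, ?_, ?_, ?_, fun j hne hj => ?_⟩
  · rw [← Category.assoc, ← Spec.map_comp, ← CommRingCat.ofHom_comp]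
    conv_rhs => rw [← hβ]
    rw [show (dualFst k).comp ψ.toRingHom = β from RingHom.ext hψ]
  · conv_rhs => rw [← hβ, Category.assoc, ← IsAffineOpen.SpecMap_appLE_fromSpec f hV U.2 h, ← Category.assoc, ← Category.assoc, ← Spec.map_comp, ← Spec.map_comp]
    rw [Category.assoc, ← IsAffineOpen.SpecMap_appLE_fromSpec f hV U.2 h, ← Category.assoc, ← Spec.map_comp]
    congr 2
    refine CommRingCat.hom_ext (RingHom.ext fun a => ?_)
    show ψ ((f.appLE V U.1 h).hom a) = dualInl k (β ((f.appLE V U.1 h).hom a))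
    rw [show (f.appLE V U.1 h).hom a = φc (MvPolynomial.C a) from (MvPolynomial.eval₂Hom_C _ _ _).symm, hψ0]
    simp [ψ₀, φc, LogModLocLib.coordHom]
  · rw [hideal i hi, if_pos rfl]
  · rw [hideal j hj, if_neg fun h' => hne (congrArg Subtype.val (hinj h') :), Ideal.span_singleton_eq_bot.2 rfl]

/-- An immersion into an affine scheme: a closed affine subscheme has an affine neighbourhood. -/
theorem exists_affine_nhd {X P Q : Scheme.{u}} [IsAffine Q] (m : P ⟶ Q) [IsImmersion m] (σ : X ⟶ P)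
    [IsClosedImmersion (σ ≫ m)] : ∃ P' : P.Opens, IsAffineOpen P' ∧ ∀ x, σ x ∈ P' := by
  have hQ := isAffineOpen_top Q
  let Z₁ : Set (PrimeSpectrum Γ(Q, ⊤)) := hQ.fromSpec ⁻¹' Set.range (σ ≫ m)
  let Z₂ : Set (PrimeSpectrum Γ(Q, ⊤)) := hQ.fromSpec ⁻¹' ((m.coborderRange : Set Q)ᶜ)
  obtain ⟨I₁, hI₁⟩ := (PrimeSpectrum.isClosed_iff_zeroLocus_ideal Z₁).1
    ((σ ≫ m).isClosedEmbedding.isClosed_range.preimage hQ.fromSpec.continuous)
  obtain ⟨I₂, hI₂⟩ := (PrimeSpectrum.isClosed_iff_zeroLocus_ideal Z₂).1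
    (m.coborderRange.2.isClosed_compl.preimage hQ.fromSpec.continuous)
  have htop : I₁ ⊔ I₂ = ⊤ := by
    rw [← PrimeSpectrum.zeroLocus_empty_iff_eq_top, PrimeSpectrum.zeroLocus_sup, ← hI₁, ← hI₂]
    ext y
    simp only [Set.mem_inter_iff, Set.mem_empty_iff_false, iff_false, not_and]
    rintro ⟨x, hx⟩ h2
    apply h2
    show hQ.fromSpec y ∈ m.coborderRange
    rw [← hx]
    exact subset_coborder ⟨σ x, rfl⟩
  obtain ⟨i, hi, a, ha, hia⟩ := Submodule.mem_sup.1 ((Ideal.eq_top_iff_one _).1 htop)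
  have hDU : Q.basicOpen a ≤ m.coborderRange := fun q hq => by
    obtain ⟨y, rfl⟩ : q ∈ Set.range hQ.fromSpec := by rw [hQ.range_fromSpec]; trivial
    by_contra hU
    have hy : y ∈ Z₂ := hU
    rw [hI₂] at hy
    have : y ∈ hQ.fromSpec ⁻¹ᵁ Q.basicOpen a := hq
    rw [hQ.fromSpec_preimage_basicOpen] at this
    exact this (hy ha)
  refine ⟨m ⁻¹ᵁ Q.basicOpen a, ?_, fun x => ?_⟩
  · have h1 : IsAffineOpen (m.coborderRange.ι ⁻¹ᵁ Q.basicOpen a) :=
      (hQ.basicOpen a).preimage_of_isOpenImmersion _ (by rw [Scheme.Opens.opensRange_ι]; exact hDU)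
    have h2 := h1.preimage m.liftCoborder
    rwa [← Scheme.Hom.comp_preimage, Scheme.Hom.liftCoborder_ι] at h2
  · obtain ⟨y, hy⟩ : (σ ≫ m) x ∈ Set.range hQ.fromSpec := by rw [hQ.range_fromSpec]; trivial
    show m (σ x) ∈ Q.basicOpen a
    rw [← Scheme.Hom.comp_apply, ← hy]
    show y ∈ hQ.fromSpec ⁻¹ᵁ Q.basicOpen a
    rw [hQ.fromSpec_preimage_basicOpen]
    intro hay
    have h1 : y ∈ Z₁ := ⟨x, hy.symm⟩
    rw [hI₁] at h1
    exact y.isPrime.ne_top ((Ideal.eq_top_iff_one _).2 (hia ▸ add_mem (h1 hi) hay))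

variable (p : ℕ) [Fact p.Prime] {Sl S X Xl : Scheme.{u}}

theorem surjective_mod {Y Z : Scheme.{u}} {t : Y ⟶ Spec (CommRingCat.of (ULift.{u} (ZMod (p ^ 2))))}
    {i : Z ⟶ Y} {t₀ : Z ⟶ Spec (CommRingCat.of (ULift.{u} (ZMod p)))}
    (h : IsPullback i t₀ t (Spec.map (CommRingCat.ofHom (redHom p)))) : Surjective i :=
  ⟨fun y => by
    obtain ⟨T, -, -⟩ := BlowUpLib.exists_affine y (W := (⊤ : Y.Opens)) trivial
    exact (chart_mod p t i t₀ h T).2.1 y⟩

/-- A lift of an affine scheme is affine. -/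
theorem isAffine_of_lift {gS : Sl ⟶ Spec (CommRingCat.of (ULift.{u} (ZMod (p ^ 2))))}
    {iS : S ⟶ Sl} {fS : S ⟶ Spec (CommRingCat.of (ULift.{u} (ZMod p)))}
    (hS : IsPullback iS fS gS (Spec.map (CommRingCat.ofHom (redHom p))))
    {f : X ⟶ S} {g : Xl ⟶ Sl} {j : X ⟶ Xl} (hX : IsPullback j f g iS) [IsAffine X] : IsAffine Xl := by
  haveI := isClosedImmersion_mod p (hX.paste_vert hS)
  haveI := surjective_mod p (hX.paste_vert hS)
  exact ChevLib.isAffine_of_surjective_universallyClosed j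

/-- A flat lift of a smooth scheme is smooth. -/
theorem smooth_of_lift (gS : Sl ⟶ Spec (CommRingCat.of (ULift.{u} (ZMod (p ^ 2))))) [Flat gS]
    (iS : S ⟶ Sl) (fS : S ⟶ Spec (CommRingCat.of (ULift.{u} (ZMod p))))
    (hS : IsPullback iS fS gS (Spec.map (CommRingCat.ofHom (redHom p))))
    (f : X ⟶ S) [Smooth f] (g : Xl ⟶ Sl) [Flat g] (j : X ⟶ Xl) (hX : IsPullback j f g iS) : Smooth g := by
  rw [HasRingHomProperty.iff_appLE (P := @Smooth)]
  intro W T e
  obtain ⟨hiS, -, hσ, hσk⟩ := chart_mod p gS iS fS hS W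
  obtain ⟨hj, -, hπ, hπk⟩ := chart_mod p (g ≫ gS) j (f ≫ fS) (hX.paste_vert hS) T
  haveI := hiS
  haveI := hj
  obtain ⟨-, -, hsq⟩ := FComplLib.chart hX W T e
  obtain ⟨aR, hflR⟩ := flat_sections p gS W
  obtain ⟨aT, hflT⟩ := flat_sections p (g ≫ gS) T
  have hT := @torsion_of_flat p _ Γ(Xl, T.1) _ aT hflT
  have hp2 : (p : Γ(Sl, W.1)) * p = 0 := by
    have h : ((p : ZMod (p ^ 2)) * p) = 0 := by rw [← pow_two, ← Nat.cast_pow, ZMod.natCast_self]
    have := congrArg (@algebraMap _ Γ(Sl, W.1) _ _ aR) h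
    rwa [map_mul, map_natCast, map_zero] at this
  have e' : j ⁻¹ᵁ T.1 ≤ f ⁻¹ᵁ (iS ⁻¹ᵁ W.1) := fun x hx => by
    have := e hx
    change g (j x) ∈ W.1 at this
    change iS (f x) ∈ W.1
    rwa [← Scheme.Hom.comp_apply, ← hX.w, Scheme.Hom.comp_apply]
  letI := (g.appLE W.1 T.1 e).hom.toAlgebra
  refine smooth_of_red p hp2 hT (iS.app W.1).hom hσ hσk (j.app T.1).hom hπ hπk (f.appLE _ _ e').hom ?_
    (HasRingHomProperty.appLE @Smooth f inferInstance ⟨_, W.2.preimage iS⟩ ⟨_, T.2.preimage j⟩ e')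
  rw [RingHom.algebraMap_toAlgebra, ← CommRingCat.hom_comp, hsq, CommRingCat.hom_comp]

end NCDLiftLib
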